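import Cfsg.Agent.Balance2.CoreBalance

/-!
Core balance: from the quotient by the core back to the group.
-/

set_option autoImplicit false
set_option linter.unusedSectionVars false
set_option linter.style.haveILetI false

namespace CfsgLib.Balance2

open Subgroup CfsgLib.Functor CfsgLib.LocalBalance
open scoped CfsgLib.Functor

universe u

variable {G : Type u} [Group G] [Finite G] [Fact (Nat.Prime 2)]

/-- Centralizers of `p`-groups cover those in the quotient by a normal `p'`-group. -/
theorem centralizer_map_le {p : ℕ} [Fact p.Prime] {O : Subgroup G} [O.Normal]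
    (hO : (Nat.card O).Coprime p) {R : Subgroup G} (hR : IsPGroup p R) :
    centralizer ((R.map (QuotientGroup.mk' O) : Subgroup _) : Set (G ⧸ O)) ≤
      (centralizer (R : Set G)).map (QuotientGroup.mk' O) := by
  intro q hq
  set f := QuotientGroup.mk' O
  obtain ⟨g, rfl⟩ := QuotientGroup.mk'_surjective O q
  haveI := hR.isNilpotent
  obtain ⟨j, hj⟩ := IsPGroup.iff_card.1 hR
  obtain ⟨c, hc1, hc2⟩ := CfsgLib.Coprime.exists_commute_mem_coset R O le_normalizer_of_normal
    (hj ▸ (hO.pow_right j).symm) g (fun r hr => by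
      rw [← QuotientGroup.ker_mk' O, MonoidHom.mem_ker]
      simp only [map_mul, map_inv]
      rw [show QuotientGroup.mk' O r * QuotientGroup.mk' O g =
        QuotientGroup.mk' O g * QuotientGroup.mk' O r from
          mem_centralizer_iff.1 hq (f r) ⟨r, hr, rfl⟩]
      group)
  refine ⟨c, mem_centralizer_iff.2 hc1, ?_⟩
  have : f (g⁻¹ * c) = 1 := (QuotientGroup.eq_one_iff _).2 hc2
  rw [map_mul, map_inv, inv_mul_eq_one] at this
  exact this.symm

/-- The core of the centralizer in the quotient lifts to the core of the centralizer. -/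
theorem core_centralizer_le_map {p : ℕ} [Fact p.Prime] {O : Subgroup G} [O.Normal]
    (hO : (Nat.card O).Coprime p) {R : Subgroup G} (hR : IsPGroup p R) :
    core p (centralizer ((R.map (QuotientGroup.mk' O) : Subgroup _) : Set (G ⧸ O))) ≤
      (core p (centralizer (R : Set G))).map (QuotientGroup.mk' O) := by
  set f := QuotientGroup.mk' O with hf
  set V := core p (centralizer ((R.map f : Subgroup _) : Set (G ⧸ O))) with hV
  intro q hq
  obtain ⟨c, hc, rfl⟩ := centralizer_map_le hO hR (core_le _ hq)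
  set N := V.comap f ⊓ centralizer (R : Set G) with hN
  refine mem_map_of_mem f (le_core (N := N) inf_le_right ?_ ?_ (mem_inf.2 ⟨hq, hc⟩))
  · refine (le_inf ((map_le_iff_le_comap.1 ?_).trans (le_normalizer_comap f))
      le_normalizer).trans inf_normalizer_le_normalizer_inf
    exact (map_le_centralizer f le_rfl).trans
      (le_normalizer.trans (normalizer_le_normalizer_core _))
  · have h1 : Nat.card ↥(f.ker ⊓ N : Subgroup G) * Nat.card ↥(N.map f) = Nat.card N := by
      rw [← relIndex_ker, ← inf_relIndex_right f.ker N, ← relIndex_bot_left, ← relIndex_bot_left]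
      exact relIndex_mul_relIndex _ _ _ bot_le inf_le_right
    rw [← h1]
    refine Nat.Coprime.mul_left (hO.coprime_dvd_left ?_) ((coprime_core _).coprime_dvd_left
      (card_dvd_of_le ((map_mono inf_le_left).trans (map_comap_le _ _))))
    rw [hf, QuotientGroup.ker_mk']
    exact card_dvd_of_le inf_le_left

/-- A Sylow subgroup of the image lifts. -/
theorem exists_sylowIn_lift {Q : Type u} [Group Q] [Finite Q] (f : G →* Q) {B : Subgroup G}
    {T : Subgroup Q} (hT : IsSylowIn 2 T (B.map f)) :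
    ∃ T' : Subgroup G, IsSylowIn 2 T' B ∧ T'.map f = T := by
  obtain ⟨T₀, hT₀⟩ := exists_sylowIn (p := 2) B
  obtain ⟨n, ⟨m, hm, rfl⟩, hn⟩ := hT.exists_cj_eq (hT₀.map f)
  refine ⟨m ⋆ T₀, hT₀.cj_of_mem (le_normalizer hm), ?_⟩
  rw [← hn]
  ext y
  constructor
  · rintro ⟨_, ⟨w, hw, rfl⟩, rfl⟩
    exact ⟨f w, mem_map_of_mem f hw, by simp⟩
  · rintro ⟨_, ⟨w, hw, rfl⟩, rfl⟩
    exact ⟨m * w * m⁻¹, ⟨w, hw, rfl⟩, by simp⟩

/-- **Core balance at the prime `2`.** -/
theorem core_centralizer_le_extendedTwoLayer {R : Subgroup G} (hR : IsPGroup 2 R) :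
    core 2 (centralizer (R : Set G)) ≤ Cfsg.extendedTwoLayer G := by
  intro x hx
  set f := QuotientGroup.mk' (Cfsg.pPrimeCore 2 G) with hf
  have hO := Solvable.coprime_card_pPrimeCore (G := G) 2
  obtain ⟨T, hT, hxT⟩ := core_le_layer_sup (Fitting.pPrimeCore_quotient_eq_bot 2) (hR.map f)
    (mem_core_quotient hO hR hx)
  have hmap : (ExtTwoLayer.base G).map f =
      Cfsg.layer (G ⧸ Cfsg.pPrimeCore 2 G) ⊔ Cfsg.pCore 2 (G ⧸ Cfsg.pPrimeCore 2 G) := by
    rw [ExtTwoLayer.base, Subgroup.map_sup, PComp.map_pLayer, ExtTwoLayer.map_pPrimePCore]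
  obtain ⟨T', hT', rfl⟩ := exists_sylowIn_lift f (B := ExtTwoLayer.base G) (hmap.symm ▸ hT)
  obtain ⟨P, hP⟩ := hT'.exists_sylow
  have hcover : Cfsg.layer (G ⧸ Cfsg.pPrimeCore 2 G) ⊔
      core 2 (centralizer ((T'.map f : Subgroup _) : Set (G ⧸ Cfsg.pPrimeCore 2 G))) ≤
      (Cfsg.extendedTwoLayer G).map f := by
    rw [ExtTwoLayer.extendedTwoLayer_eq P, Subgroup.map_sup, Subgroup.map_sup, PComp.map_pLayer]
    refine sup_le (le_sup_left.trans le_sup_left)
      ((core_centralizer_le_map hO hT'.isPGroup).trans (le_trans ?_ le_sup_right))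
    rw [show ExtTwoLayer.sylowBase P = T' from hP]
    exact le_rfl
  have h := hcover hxT
  rw [← Subgroup.mem_comap, comap_map_eq, QuotientGroup.ker_mk'] at h
  refine (show Cfsg.extendedTwoLayer G ⊔ Cfsg.pPrimeCore 2 G ≤ Cfsg.extendedTwoLayer G from
    sup_le le_rfl ?_) h
  exact (le_sup_right.trans le_sup_left : Cfsg.oddCore G ≤ Cfsg.extendedTwoLayer G)

end CfsgLib.Balance2
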