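import Cfsg.Agent.Balance2.Complement
import Cfsg.Agent.Kinf.BBalanceSteps

/-!
Balance at the prime `2`, without any hypothesis on automorphism groups: a perfect group generated
by `2`-elements, commuting with a `2`-group `R`, that centralizes `C_K(R)` modulo its core
centralizes `K` modulo its core.
-/

set_option autoImplicit false
set_option linter.unusedSectionVars false
set_option linter.style.haveILetI false

namespace CfsgLib.Balance2

open Subgroup CfsgLib.Functor CfsgLib.LocalBalance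
open scoped CfsgLib.Functor commutatorElement

universe u

variable {G : Type u} [Group G] [Finite G] [Fact (Nat.Prime 2)]

/-- The elements of `N(D)` centralizing `D` modulo its core. -/
def modCent (D : Subgroup G) : Subgroup G where
  carrier := {y | y ∈ normalizer (D : Set G) ∧ ∀ d ∈ D, y * d * y⁻¹ * d⁻¹ ∈ core 2 D}
  mul_mem' {a b} ha hb := ⟨mul_mem ha.1 hb.1, fun d hd => by
    rw [show a * b * d * (a * b)⁻¹ * d⁻¹ =
      (a * (b * d * b⁻¹ * d⁻¹) * a⁻¹) * (a * d * a⁻¹ * d⁻¹) by group]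
    exact mul_mem ((mem_normalizer_iff.1 (normalizer_le_normalizer_core D ha.1) _).1 (hb.2 d hd))
      (ha.2 d hd)⟩
  one_mem' := ⟨one_mem _, fun d _ => by simp⟩
  inv_mem' {a} ha := ⟨inv_mem ha.1, fun d hd => by
    rw [show a⁻¹ * d * a⁻¹⁻¹ * d⁻¹ = a⁻¹ * (a * d * a⁻¹ * d⁻¹)⁻¹ * a⁻¹⁻¹ by group]
    exact (mem_normalizer_iff.1 (inv_mem (normalizer_le_normalizer_core D ha.1)) _).1
      (inv_mem (ha.2 d hd))⟩

theorem mem_modCent {D : Subgroup G} {y : G} :
    y ∈ modCent D ↔ y ∈ normalizer (D : Set G) ∧ ∀ d ∈ D, y * d * y⁻¹ * d⁻¹ ∈ core 2 D := Iff.rfl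

theorem modCent_le (D : Subgroup G) : modCent D ≤ normalizer (D : Set G) := fun _ h => h.1

theorem normalizer_le_normalizer_modCent (D : Subgroup G) :
    normalizer (D : Set G) ≤ normalizer (modCent D : Set G) := by
  intro g hg
  have key : ∀ g ∈ normalizer (D : Set G), ∀ y ∈ modCent D, g * y * g⁻¹ ∈ modCent D := by
    intro g hg y hy
    refine ⟨mul_mem (mul_mem hg hy.1) (inv_mem hg), fun d hd => ?_⟩
    have h1 : g⁻¹ * d * g ∈ D := (mem_normalizer_iff''.1 hg d).1 hd
    rw [show g * y * g⁻¹ * d * (g * y * g⁻¹)⁻¹ * d⁻¹ =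
      g * (y * (g⁻¹ * d * g) * y⁻¹ * (g⁻¹ * d * g)⁻¹) * g⁻¹ by group]
    exact (mem_normalizer_iff.1 (normalizer_le_normalizer_core D hg) _).1 (hy.2 _ h1)
  refine mem_normalizer_iff.2 fun y => ⟨key g hg y, fun h => ?_⟩
  have := key g⁻¹ (inv_mem hg) _ h
  simpa [mul_assoc] using this

theorem eq_one_of_two_element {N : Subgroup G} (hN : (Nat.card N).Coprime 2) {x : G} (hx : x ∈ N)
    (h : ∃ k, x ^ 2 ^ k = 1) : x = 1 :=
  let ⟨_, hk⟩ := h
  eq_one_of_coprime hN hx hk

theorem inf_eq_bot_of_two {P N : Subgroup G} (hP : IsPGroup 2 P) (hN : (Nat.card N).Coprime 2) :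
    P ⊓ N = ⊥ := by
  rw [eq_bot_iff]
  rintro x ⟨hxP, hxN⟩
  obtain ⟨k, hk⟩ := hP ⟨x, hxP⟩
  exact mem_bot.2 (eq_one_of_coprime hN hxN (congrArg Subtype.val hk))

/-- Subgroups generated by `2`-elements absorb odd factors in `modCent`. -/
theorem le_modCent_of_le_sup {D B X : Subgroup G} (hX : X ≤ PComp.pGen 2 X)
    (hB : (Nat.card B).Coprime 2) (hBn : B ≤ normalizer (D : Set G)) (hXB : X ≤ modCent D ⊔ B) :
    X ≤ modCent D := by
  set M := normalizer (D : Set G) with hM
  haveI : ((modCent D).subgroupOf M).Normal :=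
    (normal_subgroupOf_iff_le_normalizer (modCent_le D)).2 (normalizer_le_normalizer_modCent D)
  set f := QuotientGroup.mk' ((modCent D).subgroupOf M) with hf
  refine hX.trans ((closure_le _).2 ?_)
  rintro x ⟨hx, k, hk⟩
  have hx' : x ∈ ((modCent D ⊔ B : Subgroup G) : Set G) := hXB hx
  rw [coe_mul_of_right_le_normalizer_left _ _
    (hBn.trans (normalizer_le_normalizer_modCent D))] at hx'
  obtain ⟨m, hm, b, hb, rfl⟩ := hx'
  have hfm : f ⟨m, modCent_le D hm⟩ = 1 := (QuotientGroup.eq_one_iff _).2 hm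
  have hfx : f ⟨m * b, mul_mem (modCent_le D hm) (hBn hb)⟩ = f ⟨b, hBn hb⟩ := by
    rw [show (⟨m * b, mul_mem (modCent_le D hm) (hBn hb)⟩ : M) =
      ⟨m, modCent_le D hm⟩ * ⟨b, hBn hb⟩ from rfl, map_mul, hfm, one_mul]
  have h1 : f ⟨b, hBn hb⟩ ^ 2 ^ k = 1 := by
    rw [← hfx, ← map_pow]
    exact (congrArg f (Subtype.ext hk)).trans (map_one f)
  have h2 : f ⟨b, hBn hb⟩ = 1 := by
    refine eq_one_of_coprime (N := (B.subgroupOf M).map f) ?_ (mem_map_of_mem f (by exact hb)) h1
    refine Nat.Coprime.coprime_dvd_left (card_map_dvd _ _) ?_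
    rwa [Nat.card_congr (subgroupOfEquivOfLe hBn).toEquiv]
  exact mul_mem hm ((QuotientGroup.eq_one_iff (N := (modCent D).subgroupOf M) (⟨b, hBn hb⟩ : M)).1 h2)

/-- A supplement of an odd normalized subgroup contains a perfect subgroup generated by
`2`-elements covering a given one. -/
theorem exists_perfect_part {X W O : Subgroup G} (hXp : ⁅X, X⁆ = X) (hX2 : X ≤ PComp.pGen 2 X)
    (hWn : W ≤ normalizer (O : Set G)) (hXW : X ≤ W ⊔ O) :
    ∃ X' ≤ W, ⁅X', X'⁆ = X' ∧ X' ≤ PComp.pGen 2 X' ∧ X ≤ X' ⊔ O := by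
  obtain ⟨X₀, hX₀⟩ := exists_minimal_of_wellFoundedLT
    (fun U : Subgroup G => U ≤ W ∧ X ≤ U ⊔ O) ⟨W, le_rfl, hXW⟩
  obtain ⟨hX₀W, hXX₀⟩ := hX₀.prop
  set M := normalizer (O : Set G) with hM
  set π := QuotientGroup.mk' (O.subgroupOf M) with hπ
  have hX₀M : X₀ ≤ M := hX₀W.trans hWn
  have hdec : ∀ x ∈ X, ∃ a ∈ X₀, ∃ o ∈ O, a * o = x := fun x hx => by
    have hx' : x ∈ ((X₀ ⊔ O : Subgroup G) : Set G) := hXX₀ hx
    rwa [coe_mul_of_left_le_normalizer_right _ _ hX₀M] at hx'
  have hXM : X ≤ M := hXX₀.trans (sup_le hX₀M le_normalizer)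
  -- membership modulo `O`
  have hback : ∀ U : Subgroup G, U ≤ M → (X.subgroupOf M).map π ≤ (U.subgroupOf M).map π →
      X ≤ U ⊔ O := by
    intro U hU hle x hx
    obtain ⟨u, hu, he⟩ := hle (mem_map_of_mem π (show (⟨x, hXM hx⟩ : M) ∈ X.subgroupOf M from hx))
    have h1 : u⁻¹ * ⟨x, hXM hx⟩ ∈ O.subgroupOf M := (QuotientGroup.eq_one_iff _).1 (by
      show π (u⁻¹ * ⟨x, hXM hx⟩) = 1
      rw [map_mul, map_inv, he, inv_mul_cancel])
    have := mul_mem (mem_sup_left (T := O) (show (u : G) ∈ U from hu))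
      (mem_sup_right (S := U) (mem_subgroupOf.1 h1))
    simpa using this
  have hle0 : (X.subgroupOf M).map π ≤ (X₀.subgroupOf M).map π := by
    rintro _ ⟨x, hx, rfl⟩
    obtain ⟨a, ha, o, ho, hao⟩ := hdec x hx
    refine ⟨⟨a, hX₀M ha⟩, ha, ?_⟩
    have hx' : x = (⟨a, hX₀M ha⟩ : M) * ⟨o, le_normalizer ho⟩ := Subtype.ext hao.symm
    rw [hx', map_mul, show π ⟨o, le_normalizer ho⟩ = 1 from (QuotientGroup.eq_one_iff _).2 ho,
      mul_one]
  have hsubC : ∀ U : Subgroup G, U ≤ M →
      (⁅U, U⁆).subgroupOf M = ⁅U.subgroupOf M, U.subgroupOf M⁆ := by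
    intro U hU
    apply map_injective M.subtype_injective
    rw [map_commutator, map_subgroupOf_eq_of_le hU,
      map_subgroupOf_eq_of_le ((commutator_le_self U).trans hU)]
  have h1 : X₀ ≤ ⁅X₀, X₀⁆ := by
    refine hX₀.le_of_le ⟨(commutator_le_self _).trans hX₀W, hback _
      ((commutator_le_self _).trans hX₀M) ?_⟩ (commutator_le_self _)
    conv_lhs => rw [← hXp]
    rw [hsubC X hXM, hsubC X₀ hX₀M, map_commutator, map_commutator]
    exact commutator_mono hle0 hle0
  have h2 : X₀ ≤ PComp.pGen 2 X₀ := by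
    refine hX₀.le_of_le ⟨(PComp.pGen_le 2 _).trans hX₀W, hX2.trans ((closure_le _).2 ?_)⟩
      (PComp.pGen_le 2 _)
    rintro x ⟨hx, k, hk⟩
    obtain ⟨a, ha, o, ho, rfl⟩ := hdec x hx
    -- the `2`-part of `a`
    obtain ⟨e, r, hr, hm⟩ := Nat.exists_eq_pow_mul_and_not_dvd (orderOf_pos a).ne' 2 (by norm_num)
    have hcop : (2 ^ e).Coprime r := (Nat.prime_two.coprime_iff_not_dvd.2 hr).pow_left e
    have hpa : π ⟨a, hX₀M ha⟩ = π ⟨a * o, mul_mem (hX₀M ha) (le_normalizer ho)⟩ := by
      rw [show (⟨a * o, mul_mem (hX₀M ha) (le_normalizer ho)⟩ : M) =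
        ⟨a, hX₀M ha⟩ * ⟨o, le_normalizer ho⟩ from rfl, map_mul,
        show π ⟨o, le_normalizer ho⟩ = 1 from (QuotientGroup.eq_one_iff _).2 ho, mul_one]
    have hak : π ⟨a, hX₀M ha⟩ ^ 2 ^ k = 1 := by
      rw [hpa, ← map_pow]
      exact (congrArg π (Subtype.ext hk)).trans (map_one π)
    have hae : π ⟨a, hX₀M ha⟩ ^ 2 ^ e = 1 := by
      obtain ⟨i, -, hi⟩ := (Nat.dvd_prime_pow Nat.prime_two).1 (orderOf_dvd_of_pow_eq_one hak)
      have hd : orderOf (π ⟨a, hX₀M ha⟩) ∣ 2 ^ e * r := by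
        rw [← hm, ← orderOf_mk a (hX₀M ha)]
        exact orderOf_map_dvd π _
      rw [hi] at hd
      exact orderOf_dvd_iff_pow_eq_one.1 (hi ▸
        (((Nat.prime_two.coprime_iff_not_dvd.2 hr).pow_left i).dvd_of_dvd_mul_right hd))
    have hu : π ⟨a, hX₀M ha⟩ ∈ zpowers (π ⟨a ^ r, hX₀M (pow_mem ha r)⟩) := by
      refine mem_zpowers_iff.2 ⟨Nat.gcdB (2 ^ e) r, ?_⟩
      have hg := Nat.gcd_eq_gcd_ab (2 ^ e) r
      rw [hcop.gcd_eq_one] at hg
      rw [show (⟨a ^ r, hX₀M (pow_mem ha r)⟩ : M) = ⟨a, hX₀M ha⟩ ^ r from rfl, map_pow,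
        ← zpow_natCast, ← zpow_mul]
      conv_rhs => rw [← zpow_one (π ⟨a, hX₀M ha⟩)]
      rw [show ((1 : ℤ)) = ((1 : ℕ) : ℤ) from rfl, hg, zpow_add, zpow_mul _ ((2 ^ e : ℕ) : ℤ),
        zpow_natCast _ (2 ^ e), hae, one_zpow, one_mul]
    have har : a ^ r ∈ PComp.pGen 2 X₀ :=
      PComp.mem_pGen 2 (pow_mem ha r) (k := e) (by
        rw [← pow_mul, mul_comm, ← hm, pow_orderOf_eq_one])
    have hz : π ⟨a, hX₀M ha⟩ ∈ ((PComp.pGen 2 X₀).subgroupOf M).map π := by
      refine zpowers_le.2 ?_ hu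
      exact mem_map_of_mem π har
    rw [hpa] at hz
    obtain ⟨w, hw, he'⟩ := hz
    have h4 : w⁻¹ * ⟨a * o, mul_mem (hX₀M ha) (le_normalizer ho)⟩ ∈ O.subgroupOf M :=
      (QuotientGroup.eq_one_iff _).1 (by
        show π (w⁻¹ * _) = 1
        rw [map_mul, map_inv, he', inv_mul_cancel])
    have := mul_mem (mem_sup_left (T := O) (show (w : G) ∈ PComp.pGen 2 X₀ from hw))
      (mem_sup_right (S := PComp.pGen 2 X₀) (mem_subgroupOf.1 h4))
    simpa using this
  exact ⟨X₀, hX₀W, le_antisymm (commutator_le_self _) h1, h2, hXX₀⟩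

/-- A perfect group whose commutators with `K` it centralizes, centralizes `K`. -/
theorem le_centralizer_of_central {X K : Subgroup G} (hX : ⁅X, X⁆ = X)
    (h : ∀ x ∈ X, ∀ k ∈ K, x * k * x⁻¹ * k⁻¹ ∈ centralizer (X : Set G)) :
    X ≤ centralizer (K : Set G) := by
  have h1 : ⁅⁅X, K⁆, X⁆ = ⊥ := by
    rw [commutator_eq_bot_iff_le_centralizer, commutator_le]
    intro x hx k hk
    exact h x hx k hk
  have h2 : ⁅⁅K, X⁆, X⁆ = ⊥ := by rwa [commutator_comm K X]
  rw [← commutator_eq_bot_iff_le_centralizer, ← hX]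
  exact commutator_commutator_eq_bot_of_rotate h1 h2

/-! ### The statement -/

/-- Balance for normal subgroups of order `n`. -/
def Stmt (n : ℕ) : Prop :=
  ∀ {Y : Type u} [Group Y] [Finite Y] (K R X : Subgroup Y), Nat.card K = n → K.Normal →
    IsPGroup 2 R → X ≤ centralizer (R : Set Y) → ⁅X, X⁆ = X → X ≤ PComp.pGen 2 X →
    X ≤ modCent (K ⊓ centralizer (R : Set Y)) → X ≤ modCent K

theorem map_core_subgroupOf {L M : Subgroup G} (hLM : L ≤ M) :
    (core 2 (L.subgroupOf M)).map M.subtype = core 2 L := by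
  refine le_antisymm (le_core ((map_mono (core_le _)).trans (map_subgroupOf_eq_of_le hLM).le) ?_ ?_)
    ?_
  · intro l hl
    exact le_normalizer_map M.subtype ⟨⟨l, hLM hl⟩,
      normalizer_le_normalizer_core _ (le_normalizer (show (⟨l, hLM hl⟩ : M) ∈ L.subgroupOf M from hl)),
      rfl⟩
  · rw [card_map_of_injective M.subtype_injective]
    exact coprime_core _
  · rw [← map_subgroupOf_eq_of_le ((core_le L).trans hLM)]
    refine map_mono (le_core (fun x hx => core_le L hx) ?_ ?_)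
    · intro x hx
      refine mem_normalizer_iff.2 fun y => ?_
      simp only [mem_subgroupOf, Subgroup.coe_mul, InvMemClass.coe_inv]
      exact mem_normalizer_iff.1 (normalizer_le_normalizer_core L (le_normalizer hx)) _
    · rw [Nat.card_congr (subgroupOfEquivOfLe ((core_le L).trans hLM)).toEquiv]
      exact coprime_core L

/-- The induction hypothesis for a normalized subgroup. -/
theorem step {L R X : Subgroup G} (ih : Stmt.{u} (Nat.card L))
    (hR : IsPGroup 2 R) (hXR : X ≤ centralizer (R : Set G)) (hX : ⁅X, X⁆ = X)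
    (hX2 : X ≤ PComp.pGen 2 X) (hRL : R ≤ normalizer (L : Set G))
    (hXL : X ≤ normalizer (L : Set G)) (hmod : X ≤ modCent (L ⊓ centralizer (R : Set G))) :
    X ≤ modCent L := by
  set M := normalizer (L : Set G) with hM
  have hLM : L ≤ M := le_normalizer
  have hinfM : L ⊓ centralizer (R : Set G) ≤ M := inf_le_left.trans hLM
  have hCeq : L.subgroupOf M ⊓ centralizer ((R.subgroupOf M : Subgroup M) : Set M) =
      (L ⊓ centralizer (R : Set G)).subgroupOf M := by
    ext x
    simp only [mem_inf, mem_subgroupOf, mem_centralizer_iff, SetLike.mem_coe]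
    refine and_congr_right fun _ => ⟨fun h r hr => ?_, fun h r hr => Subtype.ext (h r hr)⟩
    exact congrArg Subtype.val (h ⟨r, hRL hr⟩ hr)
  have hXgen : X.subgroupOf M ≤ PComp.pGen 2 (X.subgroupOf M) := by
    rw [← map_le_map_iff_of_injective M.subtype_injective, map_subgroupOf_eq_of_le hXL]
    refine hX2.trans ?_
    rw [PComp.pGen, PComp.pGen, MonoidHom.map_closure]
    refine closure_mono ?_
    rintro x ⟨hx, k, hk⟩
    exact ⟨⟨x, hXL hx⟩, ⟨hx, k, Subtype.ext hk⟩, rfl⟩
  have hXp : ⁅X.subgroupOf M, X.subgroupOf M⁆ = X.subgroupOf M := by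
    apply map_injective M.subtype_injective
    rw [map_commutator, map_subgroupOf_eq_of_le hXL, hX]
  have key := ih (L.subgroupOf M) (R.subgroupOf M) (X.subgroupOf M)
    (Nat.card_congr (subgroupOfEquivOfLe hLM).toEquiv) normal_in_normalizer hR.comap_subtype
    (fun x hx => mem_centralizer_iff.2 fun r hr =>
      Subtype.ext (mem_centralizer_iff.1 (hXR hx) r hr)) hXp hXgen ?_
  · intro x hx
    refine ⟨hXL hx, fun d hd => ?_⟩
    have h := (key (show (⟨x, hXL hx⟩ : M) ∈ X.subgroupOf M from hx)).2 ⟨d, hLM hd⟩ hd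
    rw [← map_core_subgroupOf hLM]
    exact ⟨_, h, rfl⟩
  · rintro x hx
    rw [hCeq]
    refine ⟨mem_normalizer_iff.2 fun y => ?_, fun d hd => ?_⟩
    · simp only [mem_subgroupOf, Subgroup.coe_mul, InvMemClass.coe_inv]
      exact mem_normalizer_iff.1 (hmod hx).1 _
    · have h := (hmod hx).2 d hd
      rw [← map_core_subgroupOf hinfM] at h
      obtain ⟨y, hy, hye⟩ := h
      have : y = x * d * x⁻¹ * d⁻¹ := Subtype.ext hye
      rwa [← this]

/-- The hypothesis passes to normalized subgroups of `K`. -/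
theorem modCent_sub {K L R X : Subgroup G} (hLK : L ≤ K) (hXR : X ≤ centralizer (R : Set G))
    (hXL : X ≤ normalizer (L : Set G)) (hmod : X ≤ modCent (K ⊓ centralizer (R : Set G))) :
    X ≤ modCent (L ⊓ centralizer (R : Set G)) := by
  intro x hx
  have hxn : x ∈ normalizer ((L ⊓ centralizer (R : Set G) : Subgroup G) : Set G) :=
    inf_normalizer_le_normalizer_inf ⟨hXL hx, le_normalizer (hXR hx)⟩
  refine ⟨hxn, fun d hd => ?_⟩
  refine le_core (N := core 2 (K ⊓ centralizer (R : Set G)) ⊓ (L ⊓ centralizer (R : Set G)))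
    inf_le_right ?_ ((coprime_core _).coprime_dvd_left (card_dvd_of_le inf_le_left))
    (mem_inf.2 ⟨(hmod hx).2 d ⟨hLK hd.1, hd.2⟩, mul_mem ((mem_normalizer_iff.1 hxn d).1 hd) (inv_mem hd)⟩)
  exact (le_inf ((inf_le_inf_right _ hLK).trans (le_normalizer.trans
    (normalizer_le_normalizer_core _))) le_normalizer).trans inf_normalizer_le_normalizer_inf

/-- The image of the hypothesis in a quotient where fixed points lift. -/
theorem modCent_map {Q : Type u} [Group Q] [Finite Q] (f : G →* Q) {D D' : Subgroup G}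
    {X : Subgroup G} (hX : X ≤ normalizer (D' : Set G))
    (hn : D' ≤ normalizer (core 2 D : Set G)) (hsub : D ≤ D')
    (h : ∀ x ∈ X, ∀ d ∈ D', x * d * x⁻¹ * d⁻¹ ∈ core 2 D) :
    X.map f ≤ modCent (D'.map f) := by
  rintro _ ⟨x, hx, rfl⟩
  refine ⟨le_normalizer_map f ⟨x, hX hx, rfl⟩, ?_⟩
  rintro _ ⟨d, hd, rfl⟩
  refine le_core (N := (core 2 D).map f) (map_mono ((core_le D).trans hsub))
    ((map_mono hn).trans (le_normalizer_map f))
    ((coprime_core _).coprime_dvd_left (card_map_dvd _ _)) ?_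
  exact ⟨_, h x hx d hd, by simp⟩

theorem map_pGen {Q : Type u} [Group Q] (f : G →* Q) {X : Subgroup G}
    (hX : X ≤ PComp.pGen 2 X) : X.map f ≤ PComp.pGen 2 (X.map f) := by
  refine (map_mono hX).trans ?_
  rw [PComp.pGen, MonoidHom.map_closure]
  refine closure_mono ?_
  rintro _ ⟨x, ⟨hx, k, hk⟩, rfl⟩
  exact ⟨mem_map_of_mem f hx, k, by rw [← map_pow, hk, map_one]⟩

theorem map_le_centralizer {Q : Type u} [Group Q] (f : G →* Q) {R X : Subgroup G}
    (hXR : X ≤ centralizer (R : Set G)) : X.map f ≤ centralizer ((R.map f : Subgroup Q) : Set Q) := by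
  rintro _ ⟨x, hx, rfl⟩
  refine mem_centralizer_iff.2 ?_
  rintro _ ⟨r, hr, rfl⟩
  rw [← map_mul, ← map_mul, mem_centralizer_iff.1 (hXR hx) r hr]

/-! ### The cases -/

variable {K R X : Subgroup G} [K.Normal]
variable (hR : IsPGroup 2 R) (hXR : X ≤ centralizer (R : Set G)) (hX : ⁅X, X⁆ = X)
  (hX2 : X ≤ PComp.pGen 2 X) (hmod : X ≤ modCent (K ⊓ centralizer (R : Set G)))
  (ih : ∀ m < Nat.card K, Stmt.{u} m)

include hR hXR hX hX2 hmod ih

/-- The case `O(K) ≠ 1`. -/
theorem case_core (hO : core 2 K ≠ ⊥) : X ≤ modCent K := by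
  set O := core 2 K with hOdef
  haveI : O.Normal := normalizer_eq_top_iff.1 (top_le_iff.1
    ((normalizer_eq_top_iff.2 (inferInstance : K.Normal)).ge.trans (normalizer_le_normalizer_core K)))
  set f := QuotientGroup.mk' O with hf
  haveI : (K.map f).Normal := Normal.map inferInstance f (QuotientGroup.mk'_surjective O)
  have hlt : Nat.card (K.map f) < Nat.card K := by
    have h := Subgroup.card_eq_card_quotient_mul_card_subgroup (O.subgroupOf K)
    have h2 : Nat.card (↥K ⧸ O.subgroupOf K) = Nat.card (K.map f) := by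
      have h3 := relIndex_ker (K := K) f
      rw [hf, QuotientGroup.ker_mk'] at h3
      exact h3
    have h4 : 1 < Nat.card (O.subgroupOf K) := by
      rw [Nat.card_congr (subgroupOfEquivOfLe (core_le K)).toEquiv]
      exact one_lt_card_iff_ne_bot _ |>.2 hO
    rw [h, h2]
    exact lt_mul_of_one_lt_right Nat.card_pos h4
  set D := K ⊓ centralizer (R : Set G)
  have hlift : (K.map f ⊓ centralizer ((R.map f : Subgroup (G ⧸ O)) : Set (G ⧸ O))) = D.map f := by
    refine le_antisymm ?_ ?_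
    · rintro _ ⟨⟨k, hk, rfl⟩, hc⟩
      haveI := hR.isNilpotent
      obtain ⟨j, hj⟩ := IsPGroup.iff_card.1 hR
      obtain ⟨c, hc1, hc2⟩ := CfsgLib.Coprime.exists_commute_mem_coset R O
        le_normalizer_of_normal (hj ▸ ((coprime_core K).pow_right j).symm) k (fun r hr => by
          refine (QuotientGroup.eq_one_iff _).1 ?_
          show f (k⁻¹ * (r * k * r⁻¹)) = 1
          simp only [map_mul, map_inv]
          rw [show f r * f k = f k * f r from mem_centralizer_iff.1 hc (f r) ⟨r, hr, rfl⟩]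
          group)
      refine ⟨c, ⟨?_, mem_centralizer_iff.2 hc1⟩, ?_⟩
      · have := mul_mem hk (core_le K hc2)
        rwa [mul_inv_cancel_left] at this
      · have : f (k⁻¹ * c) = 1 := (QuotientGroup.eq_one_iff _).2 hc2
        rw [map_mul, map_inv, inv_mul_eq_one] at this
        exact this.symm
    · exact le_inf (map_mono inf_le_left) (map_le_centralizer f inf_le_right)
  have hXD : X ≤ normalizer (D : Set G) := hmod.trans (modCent_le D)
  have h' := ih _ hlt (K.map f) (R.map f) (X.map f) rfl inferInstance (hR.map f)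
    (map_le_centralizer f hXR) (by rw [← map_commutator, hX]) (map_pGen f hX2) (by
      rw [hlift]
      exact modCent_map f hXD
        (le_normalizer.trans (normalizer_le_normalizer_core D)) le_rfl
        fun x hx d hd => (hmod hx).2 d hd)
  intro x hx
  refine ⟨le_normalizer_of_normal (mem_top x), fun k hk => ?_⟩
  set N := (core 2 (K.map f)).comap f ⊓ K with hN
  have hNc : (Nat.card N).Coprime 2 := by
    have h1 := Subgroup.card_eq_card_quotient_mul_card_subgroup (O.subgroupOf N)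
    have h2 : Nat.card (↥N ⧸ O.subgroupOf N) = Nat.card (N.map f) := by
      have h3 := relIndex_ker (K := N) f
      rw [hf, QuotientGroup.ker_mk'] at h3
      exact h3
    rw [h1, h2]
    refine Nat.Coprime.mul_left ((coprime_core (K.map f)).coprime_dvd_left (card_dvd_of_le ?_)) ?_
    · exact (map_mono inf_le_left).trans (map_comap_le f _)
    · exact (coprime_core K).coprime_dvd_left
        (card_comap_dvd_of_injective O N.subtype N.subtype_injective)
  have hNn : K ≤ normalizer (N : Set G) :=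
    (le_inf ((le_normalizer.trans (normalizer_le_normalizer_core (K.map f))) |> fun h =>
      (map_le_iff_le_comap.1 h).trans (le_normalizer_comap f)) le_normalizer).trans
      inf_normalizer_le_normalizer_inf
  refine le_core (N := N) inf_le_right hNn hNc (mem_inf.2 ⟨?_, ?_⟩)
  · rw [mem_comap]
    simpa using (h' (mem_map_of_mem f hx)).2 (f k) (mem_map_of_mem f hk)
  · exact mul_mem ((inferInstance : K.Normal).conj_mem k hk x) (inv_mem hk)

/-- A proper subgroup with trivial core normalized by `X`, `R` and `K` is centralized by `X`. -/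
theorem centralizes_of_lt {L : Subgroup G} [L.Normal] (hLK : L ≤ K)
    (hO : core 2 K = ⊥) (hne : L ≠ K) : X ≤ centralizer (L : Set G) := by
  have hlt : Nat.card L < Nat.card K :=
    lt_of_le_of_ne (card_le_of_le hLK) fun h => hne (eq_of_le_of_card_le' hLK h.ge)
  have h := step (ih _ hlt) hR hXR hX hX2 le_normalizer_of_normal le_normalizer_of_normal
    (modCent_sub hLK hXR le_normalizer_of_normal hmod)
  have hc : core 2 L ≤ core 2 K := le_core ((core_le L).trans hLK)
    ((le_normalizer_of_normal (H := L)).trans (normalizer_le_normalizer_core L)) (coprime_core L)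
  intro x hx
  refine mem_centralizer_iff.2 fun l hl => ?_
  have h1 : x * l * x⁻¹ * l⁻¹ ∈ core 2 K := hc ((h hx).2 l hl)
  rw [hO, mem_bot, mul_inv_eq_one, mul_inv_eq_iff_eq_mul] at h1
  exact h1.symm

/-- The case of a `2`-group. -/
theorem case_pgroup (hK : IsPGroup 2 K) : X ≤ centralizer (K : Set G) := by
  have hfix : ∀ x ∈ X, ∀ d ∈ K ⊓ centralizer (R : Set G), x * d = d * x := by
    intro x hx d hd
    have h1 : x * d * x⁻¹ * d⁻¹ ∈ K ⊓ core 2 (K ⊓ centralizer (R : Set G)) :=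
      mem_inf.2 ⟨mul_mem ((inferInstance : K.Normal).conj_mem d hd.1 x) (inv_mem hd.1), (hmod hx).2 d hd⟩
    rw [inf_eq_bot_of_two hK (coprime_core _), mem_bot, mul_inv_eq_one, mul_inv_eq_iff_eq_mul] at h1
    exact h1
  refine LBalance.le_of_coprime_elements (p := 2) hX fun x hx hxo => mem_centralizer_iff.2 fun k hk =>
    ((LocalB.commute_of_pxq hR hK le_normalizer_of_normal hxo
      (le_normalizer_of_normal (mem_top x)) (fun r hr => mem_centralizer_iff.1 (hXR hx) r hr)
      (fun d hd hdR => hfix x hx d ⟨hd, mem_centralizer_iff.2 hdR⟩)) k hk).eq.symm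

/-- The case of a central `O₂(K)`. -/
theorem case_central (hO : core 2 K = ⊥) {P : Subgroup G} [P.Normal] (hP : IsPGroup 2 P)
    (hPK : P ≤ K) (hne : P ≠ K) (hP1 : P ≠ ⊥) (hcen : K ≤ centralizer (P : Set G)) :
    X ≤ centralizer (K : Set G) := by
  have hXP := centralizes_of_lt hR hXR hX hX2 hmod ih hPK hO hne
  set f := QuotientGroup.mk' P with hf
  haveI : (K.map f).Normal := Normal.map inferInstance f (QuotientGroup.mk'_surjective P)
  have hlt : Nat.card (K.map f) < Nat.card K := by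
    have h := Subgroup.card_eq_card_quotient_mul_card_subgroup (P.subgroupOf K)
    have h2 : Nat.card (↥K ⧸ P.subgroupOf K) = Nat.card (K.map f) := by
      have h3 := relIndex_ker (K := K) f
      rw [hf, QuotientGroup.ker_mk'] at h3
      exact h3
    have h4 : 1 < Nat.card (P.subgroupOf K) := by
      rw [Nat.card_congr (subgroupOfEquivOfLe hPK).toEquiv]
      exact one_lt_card_iff_ne_bot _ |>.2 hP1
    rw [h, h2]
    exact lt_mul_of_one_lt_right Nat.card_pos h4
  set D := K ⊓ centralizer (R : Set G) with hD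
  set D' := K ⊓ (centralizer ((R.map f : Subgroup (G ⧸ P)) : Set (G ⧸ P))).comap f with hD'
  have hzD : ∀ d ∈ D', ∀ r ∈ R, r * d * r⁻¹ * d⁻¹ ∈ P := by
    intro d hd r hr
    refine (QuotientGroup.eq_one_iff _).1 ?_
    show f (r * d * r⁻¹ * d⁻¹) = 1
    have := mem_centralizer_iff.1 hd.2 (f r) ⟨r, hr, rfl⟩
    simp only [map_mul, map_inv, this]
    group
  have hDD' : D ≤ D' := le_inf inf_le_left
    (inf_le_right.trans (map_le_iff_le_comap.1 (map_le_centralizer f le_rfl)))
  have hD'n : D' ≤ normalizer (D : Set G) := by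
    intro e he
    refine BBalance.conj_le_imp_normalizer fun d hd => mem_inf.2 ⟨mul_mem (mul_mem he.1 hd.1) (inv_mem he.1),
      mem_centralizer_iff.2 fun r hr => ?_⟩
    set z := r * e * r⁻¹ * e⁻¹ with hz
    have hzd : z * (e * d * e⁻¹) = e * d * e⁻¹ * z :=
      (mem_centralizer_iff.1 (hcen (mul_mem (mul_mem he.1 hd.1) (inv_mem he.1))) z (hzD e he r hr))
    have hrd : r * d = d * r := mem_centralizer_iff.1 hd.2 r hr
    calc r * (e * d * e⁻¹) = z * e * (r * d) * e⁻¹ := by rw [hz]; group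
      _ = z * (e * d * e⁻¹) * (e * r * e⁻¹) := by rw [hrd]; group
      _ = e * d * e⁻¹ * (z * e * r * e⁻¹) := by rw [hzd]; group
      _ = e * d * e⁻¹ * r := by rw [hz]; group
  have hXD' : X ≤ normalizer (D' : Set G) := by
    intro x hx
    refine inf_normalizer_le_normalizer_inf ⟨le_normalizer_of_normal (mem_top x),
      le_normalizer_comap f ?_⟩
    exact le_normalizer (map_le_centralizer f hXR (mem_map_of_mem f hx))
  -- commutators with `D'` lie in `D`
  have hcomm : ∀ x ∈ X, ∀ d ∈ D', x * d * x⁻¹ * d⁻¹ ∈ D := by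
    intro x hx d hd
    have hxd : x * d * x⁻¹ ∈ D' := (mem_normalizer_iff.1 (hXD' hx) d).1 hd
    refine mem_inf.2 ⟨mul_mem hxd.1 (inv_mem hd.1), mem_centralizer_iff.2 fun r hr => ?_⟩
    set z := r * d * r⁻¹ * d⁻¹ with hz
    have hzx : z * x = x * z := mem_centralizer_iff.1 (hXP hx) z (hzD d hd r hr)
    have hrx : r * x = x * r := mem_centralizer_iff.1 (hXR hx) r hr
    have hzc : z * (x * d * x⁻¹ * d⁻¹) = x * d * x⁻¹ * d⁻¹ * z :=
      mem_centralizer_iff.1 (hcen (mul_mem hxd.1 (inv_mem hd.1))) z (hzD d hd r hr)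
    calc r * (x * d * x⁻¹ * d⁻¹) = (r * x) * d * x⁻¹ * d⁻¹ := by group
      _ = x * (z * d) * (r * x⁻¹) * d⁻¹ := by rw [hrx, hz]; group
      _ = (x * z) * d * (x⁻¹ * r) * d⁻¹ := by rw [(Commute.inv_right hrx).eq]; group
      _ = z * (x * d * x⁻¹ * d⁻¹) * (d * r * d⁻¹) := by rw [← hzx]; group
      _ = x * d * x⁻¹ * d⁻¹ * (z * d * r * d⁻¹) := by rw [hzc]; group
      _ = x * d * x⁻¹ * d⁻¹ * r := by rw [hz]; group
  -- modulo the core
  have hcore : ∀ x ∈ X, ∀ d ∈ D', x * d * x⁻¹ * d⁻¹ ∈ core 2 D := by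
    set M := normalizer (core 2 D : Set G) with hM
    have hXM : X ≤ M := (hmod.trans (modCent_le D)).trans (normalizer_le_normalizer_core D)
    have hD'M : D' ≤ M := hD'n.trans (normalizer_le_normalizer_core D)
    set π := QuotientGroup.mk' ((core 2 D).subgroupOf M) with hπ
    set A := (X.subgroupOf M).map π
    set B := (D'.subgroupOf M).map π
    have h1 : ⁅⁅A, B⁆, A⁆ = ⊥ := by
      rw [commutator_eq_bot_iff_le_centralizer, commutator_le]
      rintro _ ⟨x, hx, rfl⟩ _ ⟨d, hd, rfl⟩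
      refine mem_centralizer_iff.2 ?_
      rintro _ ⟨y, hy, rfl⟩
      have hxd : (x : G) * d * (x : G)⁻¹ * (d : G)⁻¹ ∈ D := hcomm x hx d hd
      have h2 : π (y * ⁅x, d⁆ * y⁻¹ * ⁅x, d⁆⁻¹) = 1 :=
        (QuotientGroup.eq_one_iff _).2 ((hmod hy).2 _ hxd)
      rw [← map_commutatorElement, ← map_mul, ← map_mul]
      rw [map_mul, map_mul, map_inv, map_inv, mul_inv_eq_one, mul_inv_eq_iff_eq_mul] at h2
      rw [map_mul, map_mul]
      exact h2
    have hA : ⁅A, A⁆ = A := by
      rw [← map_commutator]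
      congr 1
      apply map_injective M.subtype_injective
      rw [map_commutator, map_subgroupOf_eq_of_le hXM, hX]
    have h3 : ⁅A, B⁆ = ⊥ := by
      conv_lhs => rw [← hA]
      exact commutator_commutator_eq_bot_of_rotate h1 (by rwa [commutator_comm B A])
    intro x hx d hd
    have h4 : π ⁅(⟨x, hXM hx⟩ : M), (⟨d, hD'M hd⟩ : M)⁆ = 1 := by
      rw [map_commutatorElement, ← mem_bot, ← h3]
      exact commutator_mem_commutator (mem_map_of_mem π (by exact hx))
        (mem_map_of_mem π (by exact hd))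
    exact (QuotientGroup.eq_one_iff (N := (core 2 D).subgroupOf M) ⁅(⟨x, hXM hx⟩ : M), (⟨d, hD'M hd⟩ : M)⁆).1 h4
  have hmapD : K.map f ⊓ centralizer ((R.map f : Subgroup (G ⧸ P)) : Set (G ⧸ P)) = D'.map f := by
    refine le_antisymm ?_ (le_inf (map_mono inf_le_left)
      ((map_mono inf_le_right).trans (map_comap_le f _)))
    rintro _ ⟨⟨k, hk, rfl⟩, hc⟩
    exact ⟨k, ⟨hk, hc⟩, rfl⟩
  have h' := ih _ hlt (K.map f) (R.map f) (X.map f) rfl inferInstance (hR.map f)
    (map_le_centralizer f hXR) (by rw [← map_commutator, hX]) (map_pGen f hX2) (by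
      rw [hmapD]
      exact modCent_map f hXD' (hD'n.trans (normalizer_le_normalizer_core D)) hDD'
        hcore)
  haveI : (core 2 (K.map f)).Normal := normalizer_eq_top_iff.1 (top_le_iff.1
    ((normalizer_eq_top_iff.2 (inferInstance : (K.map f).Normal)).ge.trans
      (normalizer_le_normalizer_core _)))
  set N := (core 2 (K.map f)).comap f ⊓ K with hN
  haveI : N.Normal := Subgroup.normal_inf_normal _ _
  have hNK : N ≠ K := by
    intro hNK
    have hKodd : (Nat.card (K.map f)).Coprime 2 := by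
      refine (coprime_core (K.map f)).coprime_dvd_left (card_dvd_of_le ?_)
      conv_lhs => rw [← hNK]
      exact (map_mono inf_le_left).trans (map_comap_le f _)
    have hsyl : IsSylowIn 2 P K := by
      refine ⟨hPK, hP, ?_⟩
      have h3 := relIndex_ker (K := K) f
      rw [hf, QuotientGroup.ker_mk'] at h3
      rw [h3]
      exact Nat.prime_two.coprime_iff_not_dvd.1 hKodd.symm
    obtain ⟨T, hT⟩ := hsyl.exists_sylow
    have hTc : (T : Subgroup K) ≤ center K := fun t ht => mem_center_iff.2 fun g => Subtype.ext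
      (mem_centralizer_iff.1 (hcen g.2) t (hT.le ⟨t, ht, rfl⟩)).symm
    have h5 := Kinf.sup_pPrimeCore_of_central T hTc
    have h6 : Cfsg.pPrimeCore 2 K = ⊥ := (map_eq_bot_iff_of_injective _ K.subtype_injective).1 hO
    rw [h6, sup_bot_eq] at h5
    refine hne ?_
    rw [← hT, h5, ← MonoidHom.range_eq_map, range_subtype]
  have hXN := centralizes_of_lt hR hXR hX hX2 hmod ih inf_le_right hO hNK
  refine le_centralizer_of_central hX fun x hx k hk => ?_
  refine mem_centralizer_iff.2 fun y hy => (mem_centralizer_iff.1 (hXN hy) _ ?_).symm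
  refine mem_inf.2 ⟨?_, mul_mem ((inferInstance : K.Normal).conj_mem k hk x) (inv_mem hk)⟩
  rw [mem_comap]
  simpa using (h' (mem_map_of_mem f hx)).2 (f k) (mem_map_of_mem f hk)

end CfsgLib.Balance2
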