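import Cfsg.Agent.Balance2.Radical
import Cfsg.Agent.Kinf.LBalance
import Cfsg.Agent.ZStar.Final
import Cfsg.Agent.S0071

/-!
Automorphisms centralizing a Sylow `2`-subgroup, after Glauberman: in a group `G` with a normal
subgroup `K` such that `O(K) = 1` and `C(K) = 1`, an element of odd order centralizing a Sylow
`2`-subgroup `S` of `K` centralizes every `2`-subgroup of `C(S)` that it normalizes.
-/

set_option autoImplicit false
set_option linter.unusedSectionVars false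

namespace CfsgLib.Balance2

open Subgroup CfsgLib.Functor CfsgLib.LocalBalance
open scoped CfsgLib.Functor

universe u

section central

variable {G : Type u} [Group G] [Finite G]

/-- The isolated case: `G = K⟨t⟩`. -/
theorem central_core {K S : Subgroup G} [K.Normal] (hS : IsSylowIn 2 S K) {t : G}
    (ht2 : orderOf t = 2) (htS : ∀ s ∈ S, t * s = s * t) (hgen : K ⊔ zpowers t = ⊤)
    (hD : ∀ R ≤ S, ∀ k ∈ K, k ∈ normalizer (R : Set G) →
      ∃ d ∈ K, d * t = t * d ∧ ∀ r ∈ R, d * r * d⁻¹ = k * r * k⁻¹) :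
    ZStar.Concl G t := by
  haveI : Fact (Nat.Prime 2) := ⟨Nat.prime_two⟩
  set T := zpowers t with hT
  have htp : IsPGroup 2 T := IsPGroup.of_card (n := 1) (by rw [hT, Nat.card_zpowers, ht2]; norm_num)
  have hST : S ≤ centralizer (T : Set G) := by
    rw [hT, LocalBalance.centralizer_zpowers_eq]
    exact fun s hs => mem_centralizer_singleton_iff.2 (htS s hs).symm
  obtain ⟨P, hP⟩ := (IsPGroup.to_sup_of_normal_right' hS.isPGroup htp
    (hST.trans (centralizer_le_normalizer _))).exists_le_sylow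
  have htP : t ∈ (P : Subgroup G) := hP (mem_sup_right (mem_zpowers t))
  have hdec : ∀ x : G, ∃ k ∈ K, ∃ τ ∈ T, k * τ = x := fun x => by
    have hx : x ∈ K ⊔ T := hgen ▸ mem_top x
    exact mem_sup_of_normal_left.1 hx
  have hPK : S = (P : Subgroup G) ⊓ K :=
    hS.eq_of_le (P.2.to_le inf_le_left) inf_le_right (le_inf (le_sup_left.trans hP) hS.le)
  have hPdec : ∀ x ∈ (P : Subgroup G), ∃ s ∈ S, ∃ τ ∈ T, s * τ = x := by
    intro x hx
    obtain ⟨k, hk, τ, hτ, rfl⟩ := hdec x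
    refine ⟨k, hPK.ge ⟨?_, hk⟩, τ, hτ, rfl⟩
    have := mul_mem hx (inv_mem ((zpowers_le.2 htP) hτ))
    rwa [mul_inv_cancel_right] at this
  have hPt : ∀ x ∈ (P : Subgroup G), x * t = t * x := by
    intro x hx
    obtain ⟨s, hs, τ, hτ, rfl⟩ := hPdec x hx
    obtain ⟨i, rfl⟩ := mem_zpowers_iff.1 hτ
    rw [mul_assoc, ((Commute.refl t).zpow_left i).eq, ← mul_assoc, ← htS s hs, mul_assoc]
  refine ZStar.zstar_of_sylow P ht2 fun g hg => conj_eq_of_radical P htP (fun H hH htH n hn => ?_) hg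
  set R := H ⊓ K with hR
  set C := centralizer (H : Set G) with hC
  have hRS : R ≤ S := (inf_le_inf_right K hH.le).trans hPK.ge
  have hNR : normalizer (H : Set G) ≤ normalizer (R : Set G) :=
    (le_inf le_rfl le_normalizer_of_normal).trans inf_normalizer_le_normalizer_inf
  have hNC : normalizer (H : Set G) ≤ normalizer (centralizer (R : Set G) : Set G) :=
    hNR.trans (normalizer_le_normalizer_centralizer R)
  have hTH : T ≤ H := zpowers_le.2 htH
  have hHdec : ∀ x ∈ H, ∃ r ∈ R, ∃ τ ∈ T, r * τ = x := by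
    intro x hx
    obtain ⟨k, hk, τ, hτ, rfl⟩ := hdec x
    refine ⟨k, ⟨?_, hk⟩, τ, hτ, rfl⟩
    have := mul_mem hx (inv_mem (hTH hτ))
    rwa [mul_inv_cancel_right] at this
  -- elements of `H C(H)` fix `t`
  have hfix : H ⊔ C ≤ centralizer {t} :=
    sup_le (fun x hx => mem_centralizer_singleton_iff.2 (hPt x (hH.le hx)))
      fun x hx => mem_centralizer_singleton_iff.2 (mem_centralizer_iff.1 hx t htH).symm
  set E := normalizer (H : Set G) ⊓ centralizer (R : Set G) with hE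
  have hEC : E ≤ H ⊔ C := by
    refine hH.stab E inf_le_left ((le_inf le_normalizer hNC).trans inf_normalizer_le_normalizer_inf)
      (le_inf (centralizer_le_normalizer _) (centralizer_le inf_le_left)) fun e he => ?_
    have h1 : e * t * e⁻¹ * t⁻¹ ∈ R := by
      refine mem_inf.2 ⟨mul_mem ((mem_normalizer_iff.1 he.1 t).1 htH) (inv_mem htH), ?_⟩
      obtain ⟨k, hk, τ, hτ, rfl⟩ := hdec e
      obtain ⟨i, rfl⟩ := mem_zpowers_iff.1 hτ
      rw [show k * t ^ i * t * (k * t ^ i)⁻¹ * t⁻¹ = k * (t * k⁻¹ * t⁻¹) by group]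
      exact mul_mem hk ((inferInstance : K.Normal).conj_mem _ (inv_mem hk) t)
    set w := e * t * e⁻¹ * t⁻¹ with hw
    have hew : e * w = w * e := (mem_centralizer_iff.1 he.2 w h1).symm
    have hpow : ∀ j : ℕ, e ^ j * t * (e ^ j)⁻¹ = w ^ j * t := by
      intro j
      induction j with
      | zero => simp
      | succ j ih =>
        calc e ^ (j + 1) * t * (e ^ (j + 1))⁻¹ = e * (e ^ j * t * (e ^ j)⁻¹) * e⁻¹ := by
              rw [pow_succ']; group
          _ = e * w ^ j * e⁻¹ * (e * t * e⁻¹) := by rw [ih]; group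
          _ = w ^ j * (e * t * e⁻¹) := by
              rw [(Commute.pow_right hew j).eq, mul_inv_cancel_right]
          _ = w ^ (j + 1) * t := by rw [pow_succ, hw]; group
    obtain ⟨m, hm⟩ := (hS.isPGroup.to_le hRS) ⟨w, h1⟩
    have hm' : w ^ 2 ^ m = 1 := congrArg Subtype.val hm
    refine ⟨m, mem_centralizer_iff.2 fun x hx => ?_⟩
    obtain ⟨r, hr, τ, hτ, rfl⟩ := hHdec x hx
    obtain ⟨i, rfl⟩ := mem_zpowers_iff.1 hτ
    have hrc : Commute (e ^ 2 ^ m) r := Commute.pow_left (mem_centralizer_iff.1 he.2 r hr).symm _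
    have htc : Commute (e ^ 2 ^ m) t := by
      have := hpow (2 ^ m)
      rw [hm', one_mul, mul_inv_eq_iff_eq_mul] at this
      exact this
    exact (hrc.mul_right (htc.zpow_right i)).eq.symm
  obtain ⟨k, hk, τ, hτ, rfl⟩ := hdec n
  obtain ⟨i, rfl⟩ := mem_zpowers_iff.1 hτ
  have hkH : k ∈ normalizer (H : Set G) := by
    have := mul_mem hn (inv_mem (le_normalizer (hTH hτ)))
    rwa [mul_inv_cancel_right] at this
  obtain ⟨d, hd, hdt, hdR⟩ := hD R hRS k hk (hNR hkH)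
  have hdH : d ∈ normalizer (H : Set G) := by
    rw [mem_normalizer_iff_map_conj_eq]
    refine eq_of_le_of_card_ge ?_ (card_cj d H).ge
    rintro _ ⟨x, hx, rfl⟩
    obtain ⟨r, hr, τ, hτ, rfl⟩ := hHdec x hx
    obtain ⟨j, rfl⟩ := mem_zpowers_iff.1 hτ
    show d * (r * t ^ j) * d⁻¹ ∈ H
    rw [show d * (r * t ^ j) * d⁻¹ = (d * r * d⁻¹) * (d * t ^ j * d⁻¹) by group,
      (Commute.zpow_right hdt j).eq, mul_inv_cancel_right, hdR r hr]
    exact mul_mem ((mem_normalizer_iff.1 hkH r).1 hr.1) (hTH hτ)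
  have he : d⁻¹ * k ∈ E := by
    refine mem_inf.2 ⟨mul_mem (inv_mem hdH) hkH, mem_centralizer_iff.2 fun r hr => ?_⟩
    calc r * (d⁻¹ * k) = d⁻¹ * (d * r * d⁻¹) * k := by group
      _ = d⁻¹ * (k * r * k⁻¹) * k := by rw [hdR r hr]
      _ = d⁻¹ * k * r := by group
  have het : d⁻¹ * k * t = t * (d⁻¹ * k) := mem_centralizer_singleton_iff.1 (hfix (hEC he))
  have hkt : k * t = t * k := by
    calc k * t = d * (d⁻¹ * k * t) := by group
      _ = d * t * (d⁻¹ * k) := by rw [het]; group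
      _ = t * k := by rw [hdt]; group
  calc k * t ^ i * t * (k * t ^ i)⁻¹ = k * t * k⁻¹ := by group
    _ = t := by rw [hkt, mul_inv_cancel_right]

/-- An involution centralizing a Sylow `2`-subgroup `S` of `K` whose centralizer controls the
fusion of the subgroups of `S` centralizes `K`. -/
theorem central_of_controls {K S : Subgroup G} [K.Normal] (hO : core 2 K = ⊥)
    (hS : IsSylowIn 2 S K) {t : G} (ht2 : orderOf t = 2) (htS : ∀ s ∈ S, t * s = s * t)
    (hD : ∀ R ≤ S, ∀ k ∈ K, k ∈ normalizer (R : Set G) →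
      ∃ d ∈ K, d * t = t * d ∧ ∀ r ∈ R, d * r * d⁻¹ = k * r * k⁻¹) :
    t ∈ centralizer (K : Set G) := by
  set L := K ⊔ zpowers t with hL
  have hKL : K ≤ L := le_sup_left
  have htL : t ∈ L := mem_sup_right (mem_zpowers t)
  haveI : (K.subgroupOf L).Normal := Normal.subgroupOf inferInstance L
  have hSL : IsSylowIn 2 (S.subgroupOf L) (K.subgroupOf L) := by
    refine ⟨fun x hx => hS.le hx, hS.isPGroup.comap_subtype, ?_⟩
    rw [relIndex_subgroupOf hKL]
    exact hS.2.2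
  have hgen : K.subgroupOf L ⊔ zpowers (⟨t, htL⟩ : L) = ⊤ := by
    apply map_injective L.subtype_injective
    rw [Subgroup.map_sup, map_subgroupOf_eq_of_le hKL, MonoidHom.map_zpowers,
      ← MonoidHom.range_eq_map, range_subtype]
    rfl
  obtain ⟨N, hN, hNodd, hNt⟩ := central_core hSL (t := ⟨t, htL⟩) (by rw [← orderOf_coe]; exact ht2)
    (fun s hs => Subtype.ext (htS s hs)) hgen fun R hR k hk hkR => by
      obtain ⟨d, hd, hdt, hdR⟩ := hD (R.map L.subtype)
        (by rintro _ ⟨r, hr, rfl⟩; exact hR hr) k hk (le_normalizer_map L.subtype ⟨k, hkR, rfl⟩)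
      exact ⟨⟨d, hKL hd⟩, hd, Subtype.ext hdt, fun r hr => Subtype.ext (hdR r ⟨r, hr, rfl⟩)⟩
  -- `N` meets `K` trivially
  have hNK : (N ⊓ K.subgroupOf L).map L.subtype ≤ core 2 K := by
    refine le_core ((map_mono inf_le_right).trans (map_subgroupOf_eq_of_le hKL).le) ?_ ?_
    · intro k hk
      exact le_normalizer_map L.subtype
        ⟨⟨k, hKL hk⟩, le_normalizer_of_normal (mem_top _), rfl⟩
    · rw [card_map_of_injective L.subtype_injective]
      exact (Nat.coprime_two_right.2 hNodd).coprime_dvd_left (card_dvd_of_le inf_le_left)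
  rw [hO, le_bot_iff, map_eq_bot_iff_of_injective _ L.subtype_injective] at hNK
  refine mem_centralizer_iff.2 fun k hk => ?_
  set k' : L := ⟨k, hKL hk⟩
  set t' : L := ⟨t, htL⟩
  have h1 : t' * k' * t'⁻¹ * k'⁻¹ ∈ N ⊓ K.subgroupOf L :=
    mem_inf.2 ⟨hNt k', mul_mem ((inferInstance : (K.subgroupOf L).Normal).conj_mem k' hk t') (inv_mem hk)⟩
  rw [hNK, mem_bot, mul_inv_eq_one, mul_inv_eq_iff_eq_mul] at h1
  exact (congrArg Subtype.val h1).symm

variable {K S T : Subgroup G} [K.Normal] {c : G} {q : ℕ} [Fact q.Prime]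

/-- A fixed point of a `q`-element on the liftings. -/
theorem exists_lift (hS : IsSylowIn 2 S K) (hT : IsPGroup 2 T)
    (hTS : T ≤ centralizer (S : Set G)) (hcS : c ∈ centralizer (S : Set G))
    (hcT : c ∈ normalizer (T : Set G)) (hq : q ≠ 2) (hc : ∃ j, c ^ q ^ j = 1)
    {R : Subgroup G} (hRS : R ≤ S) (hcen : S ⊓ centralizer (R : Set G) ≤ R)
    (hW : IsSylowIn 2 (S ⊓ centralizer (R : Set G)) (K ⊓ centralizer (R : Set G)))
    {k : G} (hk : k ∈ K) (hkR : k ∈ normalizer (R : Set G)) {y : G} (hy : y ∈ T) :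
    ∃ d ∈ K, d * (y⁻¹ * (c * y * c⁻¹)) = (y⁻¹ * (c * y * c⁻¹)) * d ∧
      ∀ r ∈ R, d * r * d⁻¹ = k * r * k⁻¹ := by
  haveI : Fact (Nat.Prime 2) := ⟨Nat.prime_two⟩
  set CR := centralizer (R : Set G) with hCR
  set W := S ⊓ CR with hWdef
  set C₁ := K ⊓ CR with hC₁
  set U := W ⊔ T with hU
  have hTR : T ≤ CR := hTS.trans (centralizer_le hRS)
  have hTK : T ⊓ K ≤ W := by
    refine le_inf ?_ (inf_le_left.trans hTR)
    have := hS.eq_of_le (Q := S ⊔ (T ⊓ K)) (IsPGroup.to_sup_of_normal_left' hS.isPGroup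
      (hT.to_le inf_le_left) ((inf_le_left.trans hTS).trans (centralizer_le_normalizer _)))
      (sup_le hS.le inf_le_right) le_sup_left
    exact le_sup_right.trans this.ge
  have hTW : T ≤ normalizer (W : Set G) :=
    ((le_inf (hTS.trans (centralizer_le_normalizer _)) (hTR.trans le_normalizer)).trans
      inf_normalizer_le_normalizer_inf)
  have hTC : T ≤ normalizer (C₁ : Set G) :=
    ((le_inf le_normalizer_of_normal (hTR.trans le_normalizer)).trans
      inf_normalizer_le_normalizer_inf)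
  have hUp : IsPGroup 2 U :=
    IsPGroup.to_sup_of_normal_left' (hS.isPGroup.to_le inf_le_left) hT hTW
  have hWC₁ : W ≤ C₁ := inf_le_inf_right _ hS.le
  have hUC : U ≤ C₁ ⊔ T := sup_le_sup_right hWC₁ T
  have hUsyl : IsSylowIn 2 U (C₁ ⊔ T) := by
    obtain ⟨U', hU', hle⟩ := exists_sylowIn_ge (H := C₁ ⊔ T) hUp hUC
    suffices U' ≤ U by rwa [le_antisymm hle this]
    intro u hu
    have hu' : u ∈ ((C₁ ⊔ T : Subgroup G) : Set G) := hU'.le hu
    rw [coe_mul_of_right_le_normalizer_left _ _ hTC] at hu'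
    obtain ⟨a, ha, τ, hτ, rfl⟩ := hu'
    have haU : a ∈ U' := by
      have := mul_mem hu (inv_mem (hle (mem_sup_right (S := W) hτ)))
      rwa [mul_inv_cancel_right] at this
    have haW : a ∈ W := (hW.eq_of_le (hU'.isPGroup.to_le inf_le_left) inf_le_right
      (le_inf (le_sup_left.trans hle) hWC₁)).ge ⟨haU, ha⟩
    exact mul_mem (mem_sup_left haW) (mem_sup_right hτ)
  have hkU : k ⋆ U ≤ C₁ ⊔ T := by
    rw [cj_le_iff', hU]
    refine sup_le ?_ ?_
    · intro w hw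
      rw [mem_cj, inv_inv]
      refine mem_sup_left (mem_inf.2 ⟨(inferInstance : K.Normal).conj_mem w (hS.le hw.1) k, ?_⟩)
      exact (mem_normalizer_iff.1 (normalizer_le_normalizer_centralizer R hkR) w).1 hw.2
    · intro τ hτ
      rw [mem_cj, inv_inv, ← inv_mul_cancel_right (k * τ * k⁻¹) τ]
      refine mul_mem (mem_sup_left (mem_inf.2 ⟨?_, mul_mem ?_ (inv_mem (hTR hτ))⟩)) (mem_sup_right hτ)
      · rw [show k * τ * k⁻¹ * τ⁻¹ = k * (τ * k⁻¹ * τ⁻¹) by group]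
        exact mul_mem hk ((inferInstance : K.Normal).conj_mem _ (inv_mem hk) τ)
      · exact (mem_normalizer_iff.1 (normalizer_le_normalizer_centralizer R hkR) τ).1 (hTR hτ)
  obtain ⟨m, hm, hmU⟩ := hUsyl.exists_cj_le (isPGroup_cj k hUp) hkU
  have hm' : m⁻¹ ∈ ((C₁ ⊔ T : Subgroup G) : Set G) := inv_mem hm
  rw [coe_mul_of_right_le_normalizer_left _ _ hTC] at hm'
  obtain ⟨a, ha, τ, hτ, hat⟩ := hm'
  have hme : m = τ⁻¹ * a⁻¹ := by rw [← mul_inv_rev]; exact (inv_eq_iff_eq_inv.1 hat.symm)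
  set k₁ := a⁻¹ * k with hk₁
  have hk₁K : k₁ ∈ K := mul_mem (inv_mem ha.1) hk
  have hk₁U : k₁ ∈ normalizer (U : Set G) := by
    rw [mem_normalizer_iff_map_conj_eq]
    refine eq_of_le_of_card_ge ?_ (card_cj k₁ U).ge
    rintro _ ⟨u, hu, rfl⟩
    have h1 : τ⁻¹ * (k₁ * u * k₁⁻¹) * τ ∈ U := by
      have := hmU (mem_map_of_mem (MulAut.conj m).toMonoidHom
        (mem_map_of_mem (MulAut.conj k).toMonoidHom hu))
      rw [hme] at this
      rw [show τ⁻¹ * (k₁ * u * k₁⁻¹) * τ =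
        τ⁻¹ * a⁻¹ * (k * u * k⁻¹) * (τ⁻¹ * a⁻¹)⁻¹ by rw [hk₁]; group]
      exact this
    have h2 := mul_mem (mul_mem (mem_sup_right (S := W) hτ) h1) (inv_mem (mem_sup_right (S := W) hτ))
    show k₁ * u * k₁⁻¹ ∈ U
    rwa [show τ * (τ⁻¹ * (k₁ * u * k₁⁻¹) * τ) * τ⁻¹ = k₁ * u * k₁⁻¹ by group] at h2
  have hk₁R : ∀ r ∈ R, k₁ * r * k₁⁻¹ = k * r * k⁻¹ := by
    intro r hr
    have h1 := mem_centralizer_iff.1 ha.2 _ ((mem_normalizer_iff.1 hkR r).1 hr)
    rw [hk₁, show a⁻¹ * k * r * (a⁻¹ * k)⁻¹ = a⁻¹ * ((k * r * k⁻¹) * a) by group, h1,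
      inv_mul_cancel_left]
  -- the liftings
  set M := C₁ ⊓ normalizer (U : Set G) with hM
  set M₀ := M ⊓ centralizer (U : Set G) with hM₀
  haveI : (M₀.subgroupOf M).Normal := by
    refine (normal_subgroupOf_iff_le_normalizer inf_le_left).2 ?_
    exact ((le_inf le_normalizer (inf_le_right.trans (normalizer_le_normalizer_centralizer U))).trans
      inf_normalizer_le_normalizer_inf)
  have hKU : ∀ u ∈ U, u ∈ K → u ∈ W := by
    intro u hu huK
    have hu' : u ∈ ((W ⊔ T : Subgroup G) : Set G) := hu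
    rw [coe_mul_of_right_le_normalizer_left _ _ hTW] at hu'
    obtain ⟨w, hw, τ', hτ', rfl⟩ := hu'
    refine mul_mem hw (hTK ⟨hτ', ?_⟩)
    have := mul_mem (inv_mem (hS.le hw.1)) huK
    rwa [inv_mul_cancel_left] at this
  have hmw : ∀ m ∈ M, ∀ u ∈ U, m * u * m⁻¹ * u⁻¹ ∈ W := by
    intro m hm u hu
    refine hKU _ (mul_mem ((mem_normalizer_iff.1 hm.2 u).1 hu) (inv_mem hu)) ?_
    rw [show m * u * m⁻¹ * u⁻¹ = m * (u * m⁻¹ * u⁻¹) by group]
    exact mul_mem hm.1.1 ((inferInstance : K.Normal).conj_mem _ (inv_mem hm.1.1) u)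
  have hMp : IsPGroup 2 (↥M ⧸ M₀.subgroupOf M) := by
    intro z
    obtain ⟨⟨m, hm⟩, rfl⟩ := QuotientGroup.mk'_surjective _ z
    obtain ⟨e, he⟩ := IsPGroup.iff_card.1 (hS.isPGroup.to_le (inf_le_left : W ≤ S))
    refine ⟨e, ?_⟩
    rw [← map_pow]
    refine (QuotientGroup.eq_one_iff _).2 (mem_subgroupOf.2 ⟨pow_mem hm _, mem_centralizer_iff.2
      fun u hu => ?_⟩)
    set w := m * u * m⁻¹ * u⁻¹ with hw
    have hwW : w ∈ W := hmw m hm u hu
    have hmw' : Commute m w := (mem_centralizer_iff.1 hm.1.2 w (hcen hwW)).symm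
    have hpow : ∀ j : ℕ, m ^ j * u * (m ^ j)⁻¹ = w ^ j * u := by
      intro j
      induction j with
      | zero => simp
      | succ j ih =>
        calc m ^ (j + 1) * u * (m ^ (j + 1))⁻¹ = m * (m ^ j * u * (m ^ j)⁻¹) * m⁻¹ := by
              rw [pow_succ']; group
          _ = m * w ^ j * m⁻¹ * (m * u * m⁻¹) := by rw [ih]; group
          _ = w ^ j * (m * u * m⁻¹) := by rw [(hmw'.pow_right j).eq, mul_inv_cancel_right]
          _ = w ^ (j + 1) * u := by rw [pow_succ, hw]; group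
    have hw1 : w ^ 2 ^ e = 1 := by
      rw [← he]
      exact congrArg Subtype.val (pow_card_eq_one' (x := (⟨w, hwW⟩ : W)))
    have := hpow (2 ^ e)
    rw [hw1, one_mul, mul_inv_eq_iff_eq_mul] at this
    exact this.symm
  let Ω := {φ : U → G // ∃ m ∈ M, φ = fun (u : U) => (m * k₁) * (u : G) * (m * k₁)⁻¹}
  let f : ↥M → Ω := fun m => ⟨_, m, m.2, rfl⟩
  have hf : ∀ m m' : ↥M, f m = f m' ↔ (QuotientGroup.mk m : ↥M ⧸ M₀.subgroupOf M) = QuotientGroup.mk m' := by
    intro m m'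
    rw [QuotientGroup.eq]
    constructor
    · intro h
      refine mem_subgroupOf.2 ⟨(m⁻¹ * m').2, mem_centralizer_iff.2 fun u hu => ?_⟩
      have h1 := congrFun (congrArg Subtype.val h)
        ⟨k₁⁻¹ * u * k₁, (mem_normalizer_iff''.1 hk₁U u).1 hu⟩
      simp only [f] at h1
      rw [show (m : G) * k₁ * (k₁⁻¹ * u * k₁) * ((m : G) * k₁)⁻¹ = m * u * (m : G)⁻¹ by group,
        show (m' : G) * k₁ * (k₁⁻¹ * u * k₁) * ((m' : G) * k₁)⁻¹ = m' * u * (m' : G)⁻¹ by group] at h1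
      show u * ((m : G)⁻¹ * m') = (m : G)⁻¹ * m' * u
      calc u * ((m : G)⁻¹ * m') = (m : G)⁻¹ * (m * u * (m : G)⁻¹) * m' := by group
        _ = (m : G)⁻¹ * (m' * u * (m' : G)⁻¹) * m' := by rw [h1]
        _ = (m : G)⁻¹ * m' * u := by group
    · intro h
      refine Subtype.ext (funext fun u => ?_)
      have h1 := mem_centralizer_iff.1 (mem_subgroupOf.1 h).2 (k₁ * u * k₁⁻¹)
        ((mem_normalizer_iff.1 hk₁U u).1 u.2)
      simp only [f]
      simp only [Subgroup.coe_mul, InvMemClass.coe_inv] at h1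
      calc (m : G) * k₁ * u * ((m : G) * k₁)⁻¹
          = m * ((k₁ * u * k₁⁻¹) * ((m : G)⁻¹ * m')) * (m' : G)⁻¹ := by group
        _ = m * (((m : G)⁻¹ * m') * (k₁ * u * k₁⁻¹)) * (m' : G)⁻¹ := by rw [h1]
        _ = (m' : G) * k₁ * u * ((m' : G) * k₁)⁻¹ := by group
  haveI : Finite Ω := Finite.of_surjective f fun φ => by
    obtain ⟨m, hm, hφ⟩ := φ.2
    exact ⟨⟨m, hm⟩, Subtype.ext hφ.symm⟩
  have hcardΩ : Nat.card Ω = Nat.card (↥M ⧸ M₀.subgroupOf M) := by
    refine (Nat.card_eq_of_bijective (fun z => Quotient.liftOn' z f fun m m' h => (hf m m').2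
      (Quotient.sound' h)) ⟨?_, ?_⟩).symm
    · intro z z'
      refine Quotient.inductionOn₂' z z' fun m m' h => (hf m m').1 h
    · intro φ
      obtain ⟨m, hm, hφ⟩ := φ.2
      exact ⟨Quotient.mk'' ⟨m, hm⟩, Subtype.ext hφ.symm⟩
  set Z := zpowers c with hZ
  have hzS : Z ≤ centralizer (S : Set G) := zpowers_le.2 hcS
  have hzR : Z ≤ CR := hzS.trans (centralizer_le hRS)
  have hzW : Z ≤ centralizer (W : Set G) := hzS.trans (centralizer_le inf_le_left)
  have hzU : Z ≤ normalizer (U : Set G) := fun z hz => by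
    rw [mem_normalizer_iff_cj, hU, Subgroup.map_sup,
      mem_normalizer_iff_cj.1 (centralizer_le_normalizer _ (hzW hz)),
      mem_normalizer_iff_cj.1 ((zpowers_le.2 hcT) hz)]
  have hzM : ∀ z ∈ Z, ∀ m ∈ M, z * m * z⁻¹ * (z * k₁ * z⁻¹ * k₁⁻¹) ∈ M := by
    intro z hz m hm
    have hzn : z ∈ normalizer (M : Set G) :=
      inf_normalizer_le_normalizer_inf ⟨inf_normalizer_le_normalizer_inf
        ⟨le_normalizer_of_normal (mem_top z), le_normalizer (hzR hz)⟩,
        le_normalizer (hzU hz)⟩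
    refine mul_mem ((mem_normalizer_iff.1 hzn m).1 hm) (mem_inf.2 ⟨mem_inf.2 ⟨?_, ?_⟩, ?_⟩)
    · exact mul_mem ((inferInstance : K.Normal).conj_mem _ hk₁K z) (inv_mem hk₁K)
    · refine mem_centralizer_iff.2 fun r hr => ?_
      have h1 : k * r * k⁻¹ ∈ R := (mem_normalizer_iff.1 hkR r).1 hr
      have hk₁R' : k₁ ∈ normalizer (R : Set G) :=
        mul_mem (inv_mem (centralizer_le_normalizer _ ha.2)) hkR
      have h2 : k₁⁻¹ * r * k₁ ∈ R := (mem_normalizer_iff''.1 hk₁R' r).1 hr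
      have e1 := mem_centralizer_iff.1 (hzR hz) _ h2
      have e2 := mem_centralizer_iff.1 (hzR hz) r hr
      calc r * (z * k₁ * z⁻¹ * k₁⁻¹) = z * (r * k₁) * z⁻¹ * k₁⁻¹ := by
            rw [← mul_assoc, ← mul_assoc, ← mul_assoc, e2]; group
        _ = z * k₁ * ((k₁⁻¹ * r * k₁) * z⁻¹) * k₁⁻¹ := by group
        _ = z * k₁ * (z⁻¹ * (k₁⁻¹ * r * k₁)) * k₁⁻¹ := by
            rw [(Commute.inv_right e1).eq]
        _ = z * k₁ * z⁻¹ * k₁⁻¹ * r := by group
    · exact mul_mem (mul_mem (mul_mem (hzU hz) hk₁U) (inv_mem (hzU hz))) (inv_mem hk₁U)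
  let act : MulAction Z Ω :=
    { smul := fun z φ => ⟨fun u => (z : G) * φ.1 ⟨(z : G)⁻¹ * u * z,
          (mem_normalizer_iff''.1 (hzU z.2) _).1 u.2⟩ * (z : G)⁻¹, by
        obtain ⟨m, hm, hφ⟩ := φ.2
        refine ⟨_, hzM z z.2 m hm, funext fun u => ?_⟩
        rw [hφ]
        group⟩
      one_smul := fun φ => Subtype.ext (funext fun u => by
        show ((1 : Z) : G) * _ * ((1 : Z) : G)⁻¹ = _
        simp)
      mul_smul := fun z z' φ => Subtype.ext (funext fun u => by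
        show ((z * z' : Z) : G) * φ.1 _ * ((z * z' : Z) : G)⁻¹ =
          (z : G) * ((z' : G) * φ.1 _ * (z' : G)⁻¹) * (z : G)⁻¹
        simp [mul_assoc]) }
  have hZp : IsPGroup q Z := by
    obtain ⟨j, hj⟩ := hc
    exact LocalBalance.isPGroup_zpowers hj
  obtain ⟨e, he⟩ := IsPGroup.iff_card.1 hMp
  have hndvd : ¬ q ∣ Nat.card Ω := by
    rw [hcardΩ, he]
    intro hd
    exact hq ((Nat.prime_dvd_prime_iff_eq Fact.out Nat.prime_two).1
      ((Fact.out : q.Prime).dvd_of_dvd_pow hd))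
  obtain ⟨φ, hφ⟩ := hZp.nonempty_fixed_point_of_prime_not_dvd_card Ω hndvd
  obtain ⟨m, hm, hφm⟩ := φ.2
  set x := m * k₁ with hx
  have hfix : ∀ u ∈ U, c * (x * u * x⁻¹) * c⁻¹ = x * (c * u * c⁻¹) * x⁻¹ := by
    intro u hu
    have hcU : c * u * c⁻¹ ∈ U := (mem_normalizer_iff.1 (hzU (mem_zpowers c)) u).1 hu
    have h1 : (act.smul ⟨c, mem_zpowers c⟩ φ).1 ⟨c * u * c⁻¹, hcU⟩ = φ.1 ⟨c * u * c⁻¹, hcU⟩ :=
      congrFun (congrArg Subtype.val (hφ ⟨c, mem_zpowers c⟩)) _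
    change c * φ.1 ⟨c⁻¹ * (c * u * c⁻¹) * c, _⟩ * c⁻¹ = φ.1 ⟨c * u * c⁻¹, hcU⟩ at h1
    simp only [hφm] at h1
    rw [show c⁻¹ * (c * u * c⁻¹) * c = u by group] at h1
    exact h1
  refine ⟨x, mul_mem hm.1.1 hk₁K, ?_, fun r hr => ?_⟩
  · have hyU : y ∈ U := mem_sup_right hy
    set u' := k₁ * y * k₁⁻¹ with hu'
    have hu'U : u' ∈ U := (mem_normalizer_iff.1 hk₁U y).1 hyU
    have hxU : x ∈ normalizer (U : Set G) := mul_mem hm.2 hk₁U
    set w := x * y * x⁻¹ * y⁻¹ with hw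
    have hwW : w ∈ W := by
      refine hKU _ (mul_mem ((mem_normalizer_iff.1 hxU y).1 hyU) (inv_mem hyU)) ?_
      rw [hw, show x * y * x⁻¹ * y⁻¹ = x * (y * x⁻¹ * y⁻¹) by group]
      exact mul_mem (mul_mem hm.1.1 hk₁K)
        ((inferInstance : K.Normal).conj_mem _ (inv_mem (mul_mem hm.1.1 hk₁K)) y)
    have hcw : c * w = w * c := (mem_centralizer_iff.1 (hzW (mem_zpowers c)) w hwW).symm
    have h1 : x * (c * y * c⁻¹) * x⁻¹ = w * (c * y * c⁻¹) := by
      rw [← hfix y hyU, show x * y * x⁻¹ = w * y by rw [hw]; group]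
      calc c * (w * y) * c⁻¹ = c * w * (y * c⁻¹) := by group
        _ = w * c * (y * c⁻¹) := by rw [hcw]
        _ = w * (c * y * c⁻¹) := by group
    calc x * (y⁻¹ * (c * y * c⁻¹))
        = (x * y * x⁻¹)⁻¹ * (x * (c * y * c⁻¹) * x⁻¹) * x := by group
      _ = (w * y)⁻¹ * (w * (c * y * c⁻¹)) * x := by
          rw [h1, show x * y * x⁻¹ = w * y by rw [hw]; group]
      _ = y⁻¹ * (c * y * c⁻¹) * x := by group
  · have h1 := mem_centralizer_iff.1 hm.1.2 _ ((mem_normalizer_iff.1 hkR r).1 hr)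
    rw [hx, show m * k₁ * r * (m * k₁)⁻¹ = m * (k₁ * r * k₁⁻¹) * m⁻¹ by group, hk₁R r hr, ← h1,
      mul_inv_cancel_right]

end central

end CfsgLib.Balance2
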