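import Cfsg.Agent.Balance2.Centralizing

/-!
Glauberman: a perfect group generated by `2`-elements centralizing a Sylow `2`-subgroup of a group
`K` with `O(K) = 1` and acting faithfully on `K` is trivial.
-/

set_option autoImplicit false
set_option linter.unusedSectionVars false
set_option linter.style.haveILetI false

namespace CfsgLib.Balance2

open Subgroup CfsgLib.Functor CfsgLib.LocalBalance CfsgLib.StrongAlperin
open scoped CfsgLib.Functor

universe u

variable {G : Type u} [Group G] [Finite G]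

section prime

variable {K S T : Subgroup G} [K.Normal] {c : G} {q : ℕ} [Fact q.Prime]

/-- The fusion of subgroups of `S` is realized in the centralizer of `y⁻¹ (c y c⁻¹)`. -/
theorem controls (hS : IsSylowIn 2 S K) (hT : IsPGroup 2 T) (hTS : T ≤ centralizer (S : Set G))
    (hcS : c ∈ centralizer (S : Set G)) (hcT : c ∈ normalizer (T : Set G)) (hq : q ≠ 2)
    (hc : ∃ j, c ^ q ^ j = 1) {y : G} (hy : y ∈ T) {R : Subgroup G} (hRS : R ≤ S)
    {k : G} (hk : k ∈ K) (hkR : k ∈ normalizer (R : Set G)) :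
    ∃ d ∈ K, d * (y⁻¹ * (c * y * c⁻¹)) = (y⁻¹ * (c * y * c⁻¹)) * d ∧
      ∀ r ∈ R, d * r * d⁻¹ = k * r * k⁻¹ := by
  haveI : Fact (Nat.Prime 2) := ⟨Nat.prime_two⟩
  obtain ⟨P, hP⟩ := hS.exists_sylow
  set t := y⁻¹ * (c * y * c⁻¹) with ht
  have hloc : ∀ H : Subgroup K, Radical P H → ∀ n ∈ normalizer (H : Set K),
      ∃ d ∈ K, d * t = t * d ∧ ∀ r ∈ H.map K.subtype, d⁻¹ * r * d = (n : G)⁻¹ * r * n := by
    intro H hH n hn
    have hHS : H.map K.subtype ≤ S := (map_mono hH.le).trans hP.le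
    have hcC : ∀ x : K, x ∈ centralizer (H : Set K) ↔
        (x : G) ∈ centralizer ((H.map K.subtype : Subgroup G) : Set G) := by
      intro x
      rw [mem_centralizer_iff, mem_centralizer_iff]
      constructor
      · rintro h _ ⟨r, hr, rfl⟩; exact congrArg Subtype.val (h r hr)
      · intro h r hr; exact Subtype.ext (h r ⟨r, hr, rfl⟩)
    have hmapC : (centralizer (H : Set K)).map K.subtype =
        K ⊓ centralizer ((H.map K.subtype : Subgroup G) : Set G) := by
      ext x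
      constructor
      · rintro ⟨z, hz, rfl⟩; exact ⟨z.2, (hcC z).1 hz⟩
      · rintro ⟨h1, h2⟩; exact ⟨⟨x, h1⟩, (hcC ⟨x, h1⟩).2 h2, rfl⟩
    have hmapW : ((P : Subgroup K) ⊓ centralizer (H : Set K)).map K.subtype =
        S ⊓ centralizer ((H.map K.subtype : Subgroup G) : Set G) := by
      rw [map_inf _ _ _ K.subtype_injective, hP, hmapC, ← inf_assoc, inf_eq_left.2 hS.le]
    have hcen : S ⊓ centralizer ((H.map K.subtype : Subgroup G) : Set G) ≤ H.map K.subtype :=
      hmapW.ge.trans (map_mono hH.cen)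
    have hCn : normalizer (H : Set K) ≤ normalizer (centralizer (H : Set K) : Set K) :=
      normalizer_le_normalizer_centralizer H
    have hW := (hH.syl.inf_normal (centralizer_le_normalizer _) hCn).map K.subtype
    rw [inf_assoc, inf_eq_right.2 (centralizer_le_normalizer (H : Set K)), hmapW, hmapC] at hW
    obtain ⟨d, hd, hdt, hdR⟩ := exists_lift hS hT hTS hcS hcT hq hc hHS hcen hW
      (k := ((n⁻¹ : K) : G)) (n⁻¹).2
      (le_normalizer_map K.subtype ⟨n⁻¹, inv_mem hn, rfl⟩) hy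
    refine ⟨d⁻¹, inv_mem hd, (Commute.inv_left hdt).eq, fun r hr => ?_⟩
    rw [inv_inv, hdR r hr]
    simp
  let Agree : Subgroup K → K → Prop := fun B g =>
    ∃ d ∈ K, d * t = t * d ∧ ∀ r ∈ B.map K.subtype, d⁻¹ * r * d = (g : G)⁻¹ * r * g
  have hmul : ∀ (B : Subgroup K) (g h : K), Agree B g → Agree (g⁻¹ ⋆ B) h → Agree B (g * h) := by
    rintro B g h ⟨d, hd, hdt, hdR⟩ ⟨e, he, het, heR⟩
    refine ⟨d * e, mul_mem hd he, (Commute.mul_left hdt het).eq, fun r hr => ?_⟩
    obtain ⟨r', hr', rfl⟩ := hr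
    have h1 := heR ((g : G)⁻¹ * r' * g) ⟨g⁻¹ * r' * g, ⟨r', hr', by simp⟩, by simp⟩
    show (d * e)⁻¹ * (r' : G) * (d * e) = ((g * h : K) : G)⁻¹ * (r' : G) * ((g * h : K) : G)
    rw [show (d * e)⁻¹ * (r' : G) * (d * e) = e⁻¹ * (d⁻¹ * r' * d) * e by group]
    erw [hdR r' ⟨r', hr', rfl⟩]
    rw [h1]
    simp [mul_assoc]
  have hch : ∀ {B : Subgroup K} {v : K}, Ch P B v → Agree B v := by
    intro B v hv
    induction hv with
    | one B => exact ⟨1, one_mem _, by simp, fun r _ => by simp⟩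
    | step B H x v hH hB hx _ ih =>
      obtain ⟨d, hd, hdt, hdR⟩ := hloc H (radical_of_ess hH) x (hx.mem_normalizer hH)
      exact hmul B x v ⟨d, hd, hdt, fun r hr => hdR r (map_mono hB hr)⟩ ih
  set A := R.subgroupOf K with hA
  have hAR : A.map K.subtype = R := map_subgroupOf_eq_of_le (hRS.trans hS.le)
  have hAP : A ≤ (P : Subgroup K) := by
    intro a ha
    obtain ⟨z, hz, hza⟩ := hP.ge (hRS ha)
    rwa [← Subtype.ext hza]
  set g : K := ⟨k⁻¹, inv_mem hk⟩ with hg
  have hgA : g⁻¹ ⋆ A ≤ (P : Subgroup K) := by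
    refine le_trans ?_ hAP
    rintro _ ⟨a, ha, rfl⟩
    show k⁻¹⁻¹ * (a : G) * k⁻¹⁻¹⁻¹ ∈ R
    rw [inv_inv]
    exact (mem_normalizer_iff.1 hkR a).1 ha
  obtain ⟨cc, w, y', hcc, hw, hy', hgw⟩ := strong_alperin P hAP hgA
  have h1 : Agree A cc := ⟨1, one_mem _, by simp, fun r hr => by
    obtain ⟨r', hr', rfl⟩ := hr
    have := congrArg Subtype.val (mem_centralizer_iff.1 hcc r' hr')
    simp only [Subgroup.coe_mul] at this
    show (1 : G)⁻¹ * (r' : G) * 1 = (cc : G)⁻¹ * r' * cc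
    rw [mul_assoc, mul_assoc, this]
    group⟩
  have hfixA : cc⁻¹ ⋆ A = A :=
    mem_normalizer_iff_cj.1 (centralizer_le_normalizer _ (inv_mem hcc))
  have h2 : Agree A (cc * w) := hmul A cc w h1 (by rw [hfixA]; exact hch hw)
  have hwP : (cc * w)⁻¹ ⋆ A ≤ (P : Subgroup K) := by
    have h4 : y'⁻¹ ⋆ ((cc * w)⁻¹ ⋆ A) ≤ (P : Subgroup K) := by
      rw [cj_cj, ← mul_inv_rev, ← hgw]; exact hgA
    have h5 := cj_mono y' h4
    rw [cj_cj_inv, mem_normalizer_iff_cj.1 hy'] at h5
    exact h5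
  have h3 : Agree ((cc * w)⁻¹ ⋆ A) y' := by
    obtain ⟨d, hd, hdt, hdR⟩ := hloc _ (radical_self P) y' hy'
    exact ⟨d, hd, hdt, fun r hr => hdR r (map_mono hwP hr)⟩
  obtain ⟨d, hd, hdt, hdR⟩ := hmul A (cc * w) y' h2 h3
  refine ⟨d⁻¹, inv_mem hd, (Commute.inv_left hdt).eq, fun r hr => ?_⟩
  have h6 := hdR r (hAR.ge hr)
  rw [← hgw] at h6
  rw [inv_inv, h6, hg, inv_inv]

/-- An element of `q`-power order of `C(S)` centralizes the `2`-subgroups of `C(S)` it
normalizes. -/
theorem commute_of_primePower (hO : core 2 K = ⊥) (hC : centralizer (K : Set G) = ⊥)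
    (hS : IsSylowIn 2 S K) (hT : IsPGroup 2 T) (hTS : T ≤ centralizer (S : Set G))
    (hcS : c ∈ centralizer (S : Set G)) (hcT : c ∈ normalizer (T : Set G)) (hq : q ≠ 2)
    (hc : ∃ j, c ^ q ^ j = 1) {y : G} (hy : y ∈ T) : c * y = y * c := by
  haveI : Fact (Nat.Prime 2) := ⟨Nat.prime_two⟩
  set t := y⁻¹ * (c * y * c⁻¹) with ht
  have htT : t ∈ T := mul_mem (inv_mem hy) ((mem_normalizer_iff.1 hcT y).1 hy)
  suffices t = 1 by
    rw [ht, inv_mul_eq_one, eq_mul_inv_iff_mul_eq] at this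
    exact this.symm
  by_contra hne
  obtain ⟨m, hm⟩ : ∃ m, orderOf (t ^ m) = 2 := by
    obtain ⟨e, he⟩ := hT ⟨t, htT⟩
    have he' : t ^ 2 ^ e = 1 := congrArg Subtype.val he
    obtain ⟨i, -, hi⟩ := (Nat.dvd_prime_pow Nat.prime_two).1 (orderOf_dvd_of_pow_eq_one he')
    rcases i with _ | i
    · exact absurd (orderOf_eq_one_iff.1 hi) hne
    · refine ⟨2 ^ i, ?_⟩
      rw [orderOf_pow' _ (pow_ne_zero _ two_ne_zero), hi,
        Nat.gcd_eq_right (pow_dvd_pow 2 (Nat.le_succ i)), Nat.pow_div (Nat.le_succ i) two_pos]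
      simp
  have htS : ∀ s ∈ S, t ^ m * s = s * t ^ m := fun s hs =>
    (Commute.pow_left (mem_centralizer_iff.1 (hTS htT) s hs).symm m).eq
  have h := central_of_controls hO hS hm htS fun R hR k hk hkR => by
    obtain ⟨d, hd, hdt, hdR⟩ := controls hS hT hTS hcS hcT hq hc hy hR hk hkR
    exact ⟨d, hd, (Commute.pow_right hdt m).eq, hdR⟩
  rw [hC, mem_bot] at h
  rw [h, orderOf_one] at hm
  exact absurd hm (by norm_num)

end prime

/-- A group of odd order normalizing a `2`-subgroup of `C(S)` centralizes it. -/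
theorem commute_of_odd {K S : Subgroup G} [K.Normal] (hO : core 2 K = ⊥)
    (hC : centralizer (K : Set G) = ⊥) (hS : IsSylowIn 2 S K) {T : Subgroup G} (hT : IsPGroup 2 T)
    (hTS : T ≤ centralizer (S : Set G)) : ∀ (n : ℕ) (c : G), orderOf c = n → Odd n →
      c ∈ centralizer (S : Set G) → c ∈ normalizer (T : Set G) → c ∈ centralizer (T : Set G) := by
  intro n
  induction n using Nat.recOnPosPrimePosCoprime with
  | prime_pow q j hq _ =>
    intro c hc hodd hcS hcT
    haveI : Fact q.Prime := ⟨hq⟩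
    refine mem_centralizer_iff.2 fun y hy => ?_
    refine (commute_of_primePower (q := q) hO hC hS hT hTS hcS hcT ?_ ⟨j, ?_⟩ hy).symm
    · rintro rfl
      rcases j with _ | j
      · omega
      · simp [Nat.odd_pow_iff, Nat.odd_iff] at hodd
    · rw [← hc]; exact pow_orderOf_eq_one c
  | zero => intro c hc; exact absurd hc (orderOf_pos c).ne'
  | one =>
    intro c hc _ _ _
    rw [orderOf_eq_one_iff.1 hc]
    exact one_mem _
  | coprime a b ha hb hab iha ihb =>
    intro c hc hodd hcS hcT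
    obtain ⟨hoa, hob⟩ := Nat.odd_mul.1 hodd
    have hb' : orderOf (c ^ a) = b := by
      rw [orderOf_pow' _ (by omega), hc, Nat.gcd_mul_right_left, Nat.mul_div_cancel_left _ (by omega)]
    have ha' : orderOf (c ^ b) = a := by
      rw [orderOf_pow' _ (by omega), hc, Nat.gcd_mul_left_left, Nat.mul_div_cancel _ (by omega)]
    have h1 := ihb _ hb' hob (pow_mem hcS a) (pow_mem hcT a)
    have h2 := iha _ ha' hoa (pow_mem hcS b) (pow_mem hcT b)
    have hz : c ^ (((1 : ℕ) : ℤ)) ∈ centralizer (T : Set G) := by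
      rw [← show ((a.gcd b : ℕ) : ℤ) = ((1 : ℕ) : ℤ) by rw [hab.gcd_eq_one], Nat.gcd_eq_gcd_ab,
        zpow_add, zpow_mul, zpow_mul, zpow_natCast, zpow_natCast]
      exact mul_mem (zpow_mem h1 _) (zpow_mem h2 _)
    simpa using hz

/-- **Glauberman.** A perfect group generated by `2`-elements that acts faithfully on `K` and
centralizes a Sylow `2`-subgroup of `K` is trivial. -/
theorem eq_bot_of_centralizes [Fact (Nat.Prime 2)] {K S X : Subgroup G} [K.Normal] (hO : core 2 K = ⊥)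
    (hC : centralizer (K : Set G) = ⊥) (hS : IsSylowIn 2 S K)
    (hXS : X ≤ centralizer (S : Set G)) (hX : ⁅X, X⁆ = X) (hgen : X ≤ PComp.pGen 2 X) :
    X = ⊥ := by
  haveI : Fact (Nat.Prime 2) := ⟨Nat.prime_two⟩
  have hLC : CfsgLib.Fusion.LocalCondition 2 ↥X := by
    intro Q hQ g hg hg'
    have h := commute_of_odd hO hC hS (T := Q.map X.subtype) (hQ.map _)
      ((map_subtype_le Q).trans hXS) _ (g : G) rfl
      (by rw [orderOf_coe]; exact (Nat.coprime_two_right.1 hg'))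
      (hXS g.2) (le_normalizer_map X.subtype ⟨g, hg, rfl⟩)
    exact mem_centralizer_iff.2 fun u hu =>
      Subtype.ext (mem_centralizer_iff.1 h u ⟨u, hu, rfl⟩)
  obtain ⟨P, N, hN, hNP⟩ := CfsgLib.Fusion.hasNormalPComplement_of_localCondition hLC
  have hodd : Odd (Nat.card N) := by
    rw [← hNP.index_eq_card, Nat.odd_iff, ← Nat.two_dvd_ne_zero]
    exact P.not_dvd_index
  have hq : IsPGroup 2 (↥X ⧸ N) := by
    obtain ⟨e, he⟩ := IsPGroup.iff_card.1 P.2
    refine IsPGroup.of_card (n := e) ?_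
    rw [← index_eq_card, ← he, hNP.symm.index_eq_card]
  haveI : Group.IsPerfect X := Subgroup.isPerfect_iff.mpr hX
  have hNtop : N = ⊤ := by
    by_contra hne
    haveI : Nontrivial (↥X ⧸ N) := QuotientGroup.nontrivial_iff.2 hne
    haveI : Group.IsNilpotent (↥X ⧸ N) := hq.isNilpotent
    haveI : Group.IsPerfect (↥X ⧸ N) := ⟨by
      rw [_root_.commutator_def, ← map_top_of_surjective _ (QuotientGroup.mk'_surjective N),
        ← map_commutator, ← _root_.commutator_def, Group.IsPerfect.commutator_eq_top (G := X)]⟩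
    exact (Group.IsSolvable.commutator_lt_top_of_nontrivial (G := ↥X ⧸ N)).ne
      (Group.IsPerfect.commutator_eq_top (G := ↥X ⧸ N))
  rw [hNtop, card_top] at hodd
  refine eq_bot_iff.2 (hgen.trans ((closure_le _).2 ?_))
  rintro x ⟨hx, k, hk⟩
  exact mem_bot.2 (eq_one_of_coprime (Nat.coprime_two_right.2 hodd) hx hk)

end CfsgLib.Balance2
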