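import Cfsg.Agent.Balance2.Main
import Cfsg.Agent.Comp.ExtTwoLayer
import Cfsg.Agent.Coprime.Generation

/-!
Core balance at the prime `2`: `O(C(R)) ≤ L*(X)` for a `2`-subgroup `R`, without hypotheses.
-/

set_option autoImplicit false
set_option linter.unusedSectionVars false
set_option linter.style.haveILetI false

namespace CfsgLib.Balance2

open Subgroup CfsgLib.Functor CfsgLib.LocalBalance
open scoped CfsgLib.Functor commutatorElement

universe u

variable {G : Type u} [Group G] [Finite G] [Fact (Nat.Prime 2)]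

/-- An element of odd order of a subgroup satisfying the local condition lies in its core. -/
theorem mem_core_of_localCondition {C : Subgroup G}
    (hLC : CfsgLib.Fusion.LocalCondition 2 ↥C) {y : G} (hy : y ∈ C) (hodd : Odd (orderOf y)) :
    y ∈ core 2 C := by
  obtain ⟨P, N, hN, hNP⟩ := CfsgLib.Fusion.hasNormalPComplement_of_localCondition hLC
  have hNc : (Nat.card N).Coprime 2 := by
    rw [← hNP.index_eq_card]
    exact (Nat.prime_two.coprime_iff_not_dvd.2 P.not_dvd_index).symm
  obtain ⟨e, he⟩ := IsPGroup.iff_card.1 P.2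
  have hidx : N.index = 2 ^ e := by rw [← he, hNP.symm.index_eq_card]
  refine ⟨⟨y, hy⟩, Solvable.le_pPrimeCore 2 hN hNc ?_, rfl⟩
  refine (QuotientGroup.eq_one_iff _).1 (orderOf_eq_one_iff.1
    (Nat.eq_one_of_dvd_coprimes ((Nat.coprime_two_right.2 hodd).pow_right e) ?_ ?_))
  · have h := orderOf_map_dvd (QuotientGroup.mk' N) (⟨y, hy⟩ : C)
    rwa [Subgroup.orderOf_mk] at h
  · rw [← hidx, index_eq_card]
    exact orderOf_dvd_natCard _

omit [Fact (Nat.Prime 2)] in
/-- Over a normal subgroup, `O(C(R))` can be moved to `O(C(P))`, `P` a Sylow `2`-subgroup of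
`K ⊔ R`. -/
theorem exists_sylow_coset (K : Subgroup G) [K.Normal] {R : Subgroup G} (hR : IsPGroup 2 R)
    {x : G} (hx : x ∈ core 2 (centralizer (R : Set G))) :
    ∃ P, IsSylowIn 2 P (K ⊔ R) ∧ R ≤ P ∧
      ∃ y ∈ core 2 (centralizer (P : Set G)), x⁻¹ * y ∈ K := by
  haveI : Fact (Nat.Prime 2) := ⟨Nat.prime_two⟩
  obtain ⟨Q, -, hQ⟩ := Finite.exists_le_maximal
    (p := fun Q : Subgroup G => R ≤ Q ∧ Q ≤ K ⊔ R ∧ IsPGroup 2 Q ∧
      ∃ y ∈ core 2 (centralizer (Q : Set G)), x⁻¹ * y ∈ K) (a := R)
    ⟨le_rfl, le_sup_right, hR, x, hx, by simp⟩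
  obtain ⟨⟨hRQ, hQle, hQp, y, hy, hxy⟩, hmax⟩ := hQ
  obtain ⟨S, hS, hQS⟩ := exists_sylowIn_ge hQp hQle
  rcases eq_or_lt_of_le hQS with rfl | hlt
  · exact ⟨Q, hS, hRQ, y, hy, hxy⟩
  exfalso
  have hlt' := lt_inf_normalizer hS.isPGroup hlt
  set R' := S ⊓ normalizer (Q : Set G) with hR'
  set O := core 2 (centralizer (Q : Set G)) with hO
  refine (hmax ⟨hRQ.trans hlt'.le, inf_le_left.trans hS.le, hS.isPGroup.to_le inf_le_left, ?_⟩
    hlt'.le).not_gt hlt'
  have hR'O : R' ≤ normalizer (O : Set G) := inf_le_right.trans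
    ((normalizer_le_normalizer_centralizer Q).trans (normalizer_le_normalizer_core _))
  have hR'K : R' ≤ normalizer ((O ⊓ K : Subgroup G) : Set G) :=
    (le_inf hR'O le_normalizer_of_normal).trans inf_normalizer_le_normalizer_inf
  haveI : Group.IsNilpotent R' := (hS.isPGroup.to_le inf_le_left).isNilpotent
  obtain ⟨j, hj⟩ := IsPGroup.iff_card.1 (hS.isPGroup.to_le (inf_le_left : R' ≤ S))
  obtain ⟨c, hc, hyc⟩ := CfsgLib.Coprime.exists_commute_mem_coset R' (O ⊓ K) hR'K
    (hj ▸ (((coprime_core (p := 2) _).coprime_dvd_left (card_dvd_of_le inf_le_left)).pow_right j).symm)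
    y (fun r hr => by
      obtain ⟨k, hk, s, hs, rfl⟩ := mem_sup_of_normal_left.1 (hS.le hr.1)
      refine mem_inf.2 ⟨mul_mem (inv_mem hy) ((mem_normalizer_iff.1 (hR'O hr) y).1 hy), ?_⟩
      have h1 : s * y = y * s := mem_centralizer_iff.1 (core_le _ hy) s (hRQ hs)
      rw [show y⁻¹ * (k * s * y * (k * s)⁻¹) = y⁻¹ * k * y * k⁻¹ by
        rw [mul_assoc k s y, h1]; group]
      exact mul_mem ((inferInstance : K.Normal).conj_mem' k hk y) (inv_mem hk))
  refine ⟨c, ?_, by simpa [mul_assoc] using mul_mem hxy hyc.2⟩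
  refine le_core (N := O ⊓ centralizer (R' : Set G)) inf_le_right ?_
    ((coprime_core _).coprime_dvd_left (card_dvd_of_le inf_le_left))
    (mem_inf.2 ⟨by simpa using mul_mem hy hyc.1, mem_centralizer_iff.2 hc⟩)
  exact (le_inf (((centralizer_le hlt'.le).trans le_normalizer).trans
    (normalizer_le_normalizer_core _)) le_normalizer).trans inf_normalizer_le_normalizer_inf

/-- In a group with trivial core the centralizer of a Sylow `2`-subgroup of `E(G)O₂(G)` has a
normal `2`-complement. -/
theorem mem_core_centralizer_sylow (hO : Cfsg.pPrimeCore 2 G = ⊥) {T : Subgroup G}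
    (hT : IsSylowIn 2 T (Cfsg.layer G ⊔ Cfsg.pCore 2 G)) {y : G}
    (hy : y ∈ centralizer (T : Set G)) (hodd : Odd (orderOf y)) :
    y ∈ core 2 (centralizer (T : Set G)) := by
  refine mem_core_of_localCondition ?_ hy hodd
  set E := Cfsg.layer G with hE
  set Z := Cfsg.pCore 2 G with hZ
  set C := centralizer (T : Set G) with hC
  have hEp : ⁅E, E⁆ = E := Comp.layer_perfect
  set f := QuotientGroup.mk' (centralizer (E : Set G)) with hf
  haveI : (E.map f).Normal := Normal.map inferInstance f (QuotientGroup.mk'_surjective _)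
  have hZT : Z ≤ T := by
    have := hT.inf_normal (N := Z) le_sup_right le_normalizer_of_normal
    exact (this.eq_of_le (Solvable.isPGroup_pCore 2) le_rfl inf_le_right).ge.trans inf_le_left
  -- the image of `E` has trivial centralizer
  have hCE : centralizer ((E.map f : Subgroup _) : Set (G ⧸ centralizer (E : Set G))) = ⊥ := by
    rw [eq_bot_iff]
    intro q hq
    obtain ⟨g, rfl⟩ := QuotientGroup.mk'_surjective _ q
    refine mem_bot.2 ((QuotientGroup.eq_one_iff g).2
      (centralizes_of_commutator_central hEp (le_normalizer_of_normal (mem_top g)) fun k hk => ?_))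
    refine (QuotientGroup.eq_one_iff _).1 ?_
    show f (g * k * g⁻¹ * k⁻¹) = 1
    have h1 : f k * f g = f g * f k := mem_centralizer_iff.1 hq (f k) ⟨k, hk, rfl⟩
    simp only [map_mul, map_inv]
    rw [← h1]
    group
  -- and trivial core
  have hEc : core 2 (E.map f) = ⊥ := by
    set N := (core 2 (E.map f)).comap f ⊓ E with hN
    have hkill : ∀ u ∈ N, ∀ a, u ^ 2 ^ a = 1 → f u = 1 := fun u hu a ha =>
      eq_one_of_coprime (coprime_core (E.map f)) hu.1 (k := a) (by rw [← map_pow, ha, map_one])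
    have hEN : E ≤ normalizer (N : Set G) :=
      (le_inf ((map_le_iff_le_comap.1 (le_normalizer.trans
        (normalizer_le_normalizer_core (E.map f)))).trans (le_normalizer_comap f))
        le_normalizer).trans inf_normalizer_le_normalizer_inf
    have hLC : CfsgLib.Fusion.LocalCondition 2 ↥N := by
      intro Q hQ g _ _
      refine mem_centralizer_iff.2 fun u hu => Subtype.ext ?_
      obtain ⟨a, ha⟩ := hQ ⟨u, hu⟩
      have h1 : (u : G) ∈ centralizer (E : Set G) := (QuotientGroup.eq_one_iff _).1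
        (hkill u u.2 a (by simpa using congrArg (fun w : Q => ((w : N) : G)) ha))
      exact (mem_centralizer_iff.1 h1 g g.2.2).symm
    have hEO : core 2 E = ⊥ := by
      rw [eq_bot_iff, ← hO]
      exact Solvable.le_pPrimeCore 2 (normalizer_eq_top_iff.1 (top_le_iff.1
        ((normalizer_eq_top_iff.2 (inferInstance : E.Normal)).ge.trans
          (normalizer_le_normalizer_core _)))) (coprime_core _)
    rw [eq_bot_iff]
    intro q hq
    obtain ⟨n, hn, rfl⟩ := core_le _ hq
    have hnN : n ∈ N := mem_inf.2 ⟨hq, hn⟩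
    obtain ⟨a, m, hm, ham⟩ := Nat.exists_eq_two_pow_mul_odd (orderOf_pos n).ne'
    refine mem_bot.2 (hkill n hnN a (mem_bot.1 (hEO.le ?_)))
    refine le_core (N := core 2 N) ((core_le _).trans inf_le_right)
      (hEN.trans (normalizer_le_normalizer_core _)) (coprime_core _)
      (mem_core_of_localCondition hLC (pow_mem hnN _) ?_)
    rwa [orderOf_pow_of_dvd (pow_ne_zero _ two_ne_zero) ⟨m, ham⟩, ham,
      Nat.mul_div_cancel_left _ (pow_pos two_pos _)]
  have hTE : IsSylowIn 2 (T ⊓ E) E := hT.inf_normal le_sup_left le_normalizer_of_normal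
  intro Q hQ g hg hgo
  refine mem_centralizer_iff.2 fun u hu => Subtype.ext ?_
  have hQC : (Q.map C.subtype).map f ≤
      centralizer (((T ⊓ E).map f : Subgroup _) : Set (G ⧸ centralizer (E : Set G))) :=
    map_le_centralizer f ((map_subtype_le Q).trans (centralizer_le inf_le_left))
  have hfg := commute_of_odd hEc hCE (hTE.map f) ((hQ.map C.subtype).map f) hQC
    _ (f g) rfl (Odd.of_dvd_nat (Nat.coprime_two_right.1 hgo) (by
      rw [← orderOf_coe]
      exact orderOf_map_dvd f (g : G)))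
    (map_le_centralizer f (centralizer_le inf_le_left) (mem_map_of_mem f g.2))
    (le_normalizer_map f (mem_map_of_mem f (le_normalizer_map C.subtype ⟨g, hg, rfl⟩)))
  set t : G := (g : G) * u * (g : G)⁻¹ * (u : G)⁻¹ with ht
  have htE : t ∈ centralizer (E : Set G) := by
    refine (QuotientGroup.eq_one_iff _).1 ?_
    show f t = 1
    have h1 : f u * f g = f g * f u :=
      mem_centralizer_iff.1 hfg (f u) (mem_map_of_mem f (mem_map_of_mem C.subtype hu))
    simp only [ht, map_mul, map_inv]
    rw [← h1]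
    group
  have htC : t ∈ C := mul_mem (mul_mem (mul_mem g.2 u.2) (inv_mem g.2)) (inv_mem u.2)
  have htQ : (⟨t, htC⟩ : C) ∈ Q := by
    have : g * u * g⁻¹ * u⁻¹ ∈ Q := mul_mem ((mem_normalizer_iff.1 hg u).1 hu) (inv_mem hu)
    convert this using 1
    exact Subtype.ext (by simp [ht])
  obtain ⟨a, ha⟩ := hQ ⟨_, htQ⟩
  have ha' : t ^ 2 ^ a = 1 := by simpa using congrArg (fun w : Q => ((w : C) : G)) ha
  have htF : t ∈ centralizer (Cfsg.generalizedFittingSubgroup G : Set G) := by
    refine mem_centralizer_iff.2 fun z hz => ?_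
    suffices Cfsg.generalizedFittingSubgroup G ≤ centralizer {t} from
      mem_centralizer_singleton_iff.1 (this hz)
    refine sup_le (fun e he => mem_centralizer_singleton_iff.2 (mem_centralizer_iff.1 htE e he))
      fun e he => mem_centralizer_singleton_iff.2
        (mem_centralizer_iff.1 htC e (hZT (LocalBalance.fitting_le_pCore hO he)))
  have htT : t ∈ T := by
    have htK : t ∈ E ⊔ Z :=
      (sup_le_sup_left (LocalBalance.fitting_le_pCore hO) _) (Comp.centralizer_Fstar_le htF)
    have hp : IsPGroup 2 ↥(T ⊔ zpowers t) :=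
      IsPGroup.to_sup_of_normal_left' hT.isPGroup (isPGroup_zpowers ha') (zpowers_le.2
        (centralizer_le_normalizer _ htC))
    exact (hT.eq_of_le hp (sup_le hT.le (zpowers_le.2 htK)) le_sup_left).ge
      (mem_sup_right (mem_zpowers t))
  have hgt : (g : G) * t = t * g := (mem_centralizer_iff.1 g.2 t htT).symm
  have hpow : ∀ n : ℕ, (g : G) ^ n * u * ((g : G) ^ n)⁻¹ = t ^ n * u := by
    intro n
    induction n with
    | zero => simp
    | succ n ih =>
      calc (g : G) ^ (n + 1) * u * ((g : G) ^ (n + 1))⁻¹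
          = g * ((g : G) ^ n * u * ((g : G) ^ n)⁻¹) * (g : G)⁻¹ := by rw [pow_succ']; group
        _ = g * t ^ n * u * (g : G)⁻¹ := by rw [ih]; group
        _ = t ^ n * (g * u * (g : G)⁻¹) := by
          rw [(Commute.pow_right hgt n).eq]; group
        _ = t ^ (n + 1) * u := by rw [pow_succ, ht]; group
  have h1 : t ^ orderOf (g : G) = 1 := by
    have := hpow (orderOf (g : G))
    rw [pow_orderOf_eq_one, one_mul, inv_one, mul_one] at this
    exact mul_eq_right.1 this.symm
  have h2 : t = 1 := orderOf_eq_one_iff.1 (Nat.eq_one_of_dvd_coprimes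
    ((orderOf_coe g ▸ hgo : (orderOf (g : G)).Coprime 2).pow_right a)
    (orderOf_dvd_of_pow_eq_one h1) (orderOf_dvd_of_pow_eq_one ha'))
  rw [ht, mul_inv_eq_one, mul_inv_eq_iff_eq_mul] at h2
  simpa using h2.symm

/-- **Core balance** in a group with trivial core. -/
theorem core_le_layer_sup (hO : Cfsg.pPrimeCore 2 G = ⊥) {R : Subgroup G} (hR : IsPGroup 2 R)
    {x : G} (hx : x ∈ core 2 (centralizer (R : Set G))) :
    ∃ T, IsSylowIn 2 T (Cfsg.layer G ⊔ Cfsg.pCore 2 G) ∧
      x ∈ Cfsg.layer G ⊔ core 2 (centralizer (T : Set G)) := by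
  set K := Cfsg.layer G ⊔ Cfsg.pCore 2 G with hK
  obtain ⟨P, hP, -, y, hy, hxy⟩ := exists_sylow_coset K hR hx
  have hT : IsSylowIn 2 (P ⊓ K) K := hP.inf_normal le_sup_left le_normalizer_of_normal
  have hodd : Odd (orderOf y) := Nat.coprime_two_right.1
    ((coprime_core _).coprime_dvd_left (orderOf_dvd_natCard _ hy))
  have hyT : y ∈ core 2 (centralizer ((P ⊓ K : Subgroup G) : Set G)) :=
    mem_core_centralizer_sylow hO hT (centralizer_le inf_le_left (core_le _ hy)) hodd
  refine ⟨_, hT, ?_⟩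
  obtain ⟨e, he, z, hz, hez⟩ := mem_sup_of_normal_left.1 hxy
  set L := Cfsg.layer G ⊔ core 2 (centralizer ((P ⊓ K : Subgroup G) : Set G)) with hL
  have hzT : z ∈ P ⊓ K := by
    have := hT.inf_normal (N := Cfsg.pCore 2 G) le_sup_right le_normalizer_of_normal
    exact ((this.eq_of_le (Solvable.isPGroup_pCore 2) le_rfl inf_le_right).ge hz).1
  have hzL : z ∈ centralizer (L : Set G) := by
    refine mem_centralizer_iff.2 fun w hw => ?_
    suffices L ≤ centralizer {z} from mem_centralizer_singleton_iff.1 (this hw)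
    refine sup_le (fun v hv => mem_centralizer_singleton_iff.2 ?_)
      fun v hv => mem_centralizer_singleton_iff.2 (mem_centralizer_iff.1 (core_le _ hv) z hzT).symm
    have hzF : z ∈ Cfsg.fittingSubgroup G :=
      Comp.le_fitting inferInstance (Solvable.isPGroup_pCore 2).isNilpotent hz
    exact (mem_centralizer_iff.1 (Comp.layer_le_centralizer_fitting hv) z hzF).symm
  have hxz : x = y * e⁻¹ * z⁻¹ := by
    have h1 : e * z = z * e := mem_centralizer_iff.1 hzL e (mem_sup_left he)
    rw [show y * e⁻¹ * z⁻¹ = y * (e * z)⁻¹ by rw [h1]; group, hez]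
    group
  have hw : y * e⁻¹ ∈ L := mul_mem (mem_sup_right hyT) (inv_mem (mem_sup_left he))
  have hcomm : Commute (y * e⁻¹) z⁻¹ := (show Commute (y * e⁻¹) z from
    (mem_centralizer_iff.1 hzL _ hw)).inv_right
  suffices z⁻¹ ∈ L by rw [hxz]; exact mul_mem hw this
  obtain ⟨a, ha⟩ := (Solvable.isPGroup_pCore (G := G) 2) ⟨_, inv_mem hz⟩
  have hzn : z⁻¹ ^ orderOf x ∈ L := by
    have h := pow_orderOf_eq_one x
    nth_rw 1 [hxz] at h
    rw [hcomm.mul_pow, mul_eq_one_iff_inv_eq] at h
    rw [← h]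
    exact inv_mem (pow_mem hw _)
  exact CfsgLib.Coprime.mem_of_pow_mem_of_coprime (Nat.Coprime.coprime_dvd_right
    (orderOf_dvd_of_pow_eq_one (congrArg Subtype.val ha))
    (((coprime_core _).coprime_dvd_left (orderOf_dvd_natCard _ hx)).pow_right a)) hzn

end CfsgLib.Balance2
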