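import Cfsg.Agent.Balance2.Main
import Cfsg.Agent.Kinf.BBalanceBasic

/-!
L-balance at the prime `2`, without hypotheses.
-/

set_option autoImplicit false
set_option linter.unusedSectionVars false
set_option linter.style.haveILetI false

namespace CfsgLib.Balance2

open Subgroup CfsgLib.LocalBalance CfsgLib.LBalance
open scoped commutatorElement

universe u

variable {G : Type u} [Group G] [Finite G] [Fact (Nat.Prime 2)]

/-- A subnormal `Quasi` subgroup of `C(R)` either lies in a normal subgroup or centralizes it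
modulo its core. -/
theorem le_or_modCent (N : Subgroup G) [N.Normal] {R M : Subgroup G} (hR : IsPGroup 2 R)
    (hMR : M ≤ centralizer (R : Set G))
    (hsub : (M.subgroupOf (centralizer (R : Set G))).IsSubnormal) (hM : Quasi 2 M) :
    M ≤ N ∨ M ≤ modCent N := by
  set C := centralizer (R : Set G) with hC
  set H := N ⊓ C with hH
  have hn : C ≤ normalizer (H : Set G) :=
    (le_inf le_normalizer_of_normal le_normalizer).trans inf_normalizer_le_normalizer_inf
  rcases dichotomy hMR hsub hM (inf_le_right : H ≤ C) hn with h | h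
  · exact Or.inl (h.trans inf_le_left)
  refine Or.inr (balance hR hMR hM.1 hM.2.2 fun x hx => ⟨hn (hMR hx), fun d hd => ?_⟩)
  exact le_core (N := core 2 C ⊓ H) inf_le_right
    ((le_inf (inf_le_right.trans (le_normalizer.trans (normalizer_le_normalizer_core C)))
      le_normalizer).trans inf_normalizer_le_normalizer_inf)
    ((coprime_core C).coprime_dvd_left (card_dvd_of_le inf_le_left))
    (mem_inf.2 ⟨h x hx d hd, mul_mem ((mem_normalizer_iff.1 (hn (hMR hx)) d).1 hd) (inv_mem hd)⟩)

/-- L-balance in a group with trivial core. -/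
theorem le_layer (hO : Cfsg.pPrimeCore 2 G = ⊥) {R M : Subgroup G} (hR : IsPGroup 2 R)
    (hMR : M ≤ centralizer (R : Set G))
    (hsub : (M.subgroupOf (centralizer (R : Set G))).IsSubnormal) (hM : Quasi 2 M) :
    M ≤ Cfsg.layer G := by
  set F := Cfsg.pCore 2 G
  set C := centralizer (R : Set G) with hC
  have hMF : M ≤ centralizer (F : Set G) := by
    have hfix : M ≤ centralizer ((F ⊓ C : Subgroup G) : Set G) :=
      le_centralizer_of_pGroup hMR hsub hM inf_le_right
        ((le_inf le_normalizer_of_normal le_normalizer).trans inf_normalizer_le_normalizer_inf)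
        ((Solvable.isPGroup_pCore 2).to_le inf_le_left)
    refine le_of_coprime_elements (p := 2) hM.1 fun x hx hxo => ?_
    refine mem_centralizer_iff.2 fun r hr => ((LocalB.commute_of_pxq hR (Solvable.isPGroup_pCore 2)
      le_normalizer_of_normal hxo (le_normalizer_of_normal (mem_top x))
      (fun π hπ => mem_centralizer_iff.1 (hMR hx) π hπ) ?_) r hr).eq.symm
    intro z hz hzR
    exact (mem_centralizer_iff.1 (hfix hx) z ⟨hz, mem_centralizer_iff.2 hzR⟩).symm
  rcases le_or_modCent (Cfsg.layer G) hR hMR hsub hM with h | h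
  · exact h
  have hcore : core 2 (Cfsg.layer G) = ⊥ := by
    rw [eq_bot_iff, ← hO]
    exact Solvable.le_pPrimeCore 2 (normalizer_eq_top_iff.1 (top_le_iff.1
      ((normalizer_eq_top_iff.2 (inferInstance : (Cfsg.layer G).Normal)).ge.trans
        (normalizer_le_normalizer_core _)))) (coprime_core _)
  have hMstar : M ≤ centralizer (Cfsg.generalizedFittingSubgroup G : Set G) := by
    intro x hx
    refine mem_centralizer_iff.2 fun z hz => ?_
    suffices Cfsg.generalizedFittingSubgroup G ≤ centralizer {x} from
      mem_centralizer_singleton_iff.1 (this hz)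
    refine sup_le (fun e he => mem_centralizer_singleton_iff.2 ?_) fun f hf =>
      mem_centralizer_singleton_iff.2 (mem_centralizer_iff.1 (hMF hx) f (fitting_le_pCore hO hf))
    have h1 := (h hx).2 e he
    rw [hcore, mem_bot, mul_inv_eq_one, mul_inv_eq_iff_eq_mul] at h1
    exact h1.symm
  have habel : ⁅M, M⁆ = ⊥ := commutator_eq_bot_iff_le_centralizer.2
    (hMstar.trans (centralizer_le (hMstar.trans Comp.centralizer_Fstar_le)))
  rw [← hM.1, habel]
  exact bot_le

/-- **L-balance at the prime `2`.** -/
theorem quasi_le_pLayer {R M : Subgroup G} (hR : IsPGroup 2 R)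
    (hMR : M ≤ centralizer (R : Set G))
    (hsub : (M.subgroupOf (centralizer (R : Set G))).IsSubnormal) (hq : Quasi 2 M) :
    M ≤ Cfsg.pLayer 2 G := by
  set f := QuotientGroup.mk' (Cfsg.pPrimeCore 2 G)
  set C := centralizer (R : Set G) with hC
  have hM : Quasi 2 (M.map f) := hq.map f (by
    refine (Solvable.coprime_card_pPrimeCore (G := G) 2).coprime_dvd_left ?_
    rw [QuotientGroup.ker_mk']
    exact card_dvd_of_le inf_le_right)
  have h1 : centralizer ((R.map f : Subgroup _) : Set (G ⧸ Cfsg.pPrimeCore 2 G)) = C.map f := by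
    refine le_antisymm ?_ (map_le_centralizer f le_rfl)
    intro q hq'
    obtain ⟨g, rfl⟩ := QuotientGroup.mk'_surjective _ q
    haveI := hR.isNilpotent
    obtain ⟨j, hj⟩ := IsPGroup.iff_card.1 hR
    obtain ⟨c, hc1, hc2⟩ := CfsgLib.Coprime.exists_commute_mem_coset R (Cfsg.pPrimeCore 2 G)
      le_normalizer_of_normal (hj ▸ ((Solvable.coprime_card_pPrimeCore 2).pow_right j).symm) g
      (fun r hr => by
        rw [← QuotientGroup.ker_mk' (Cfsg.pPrimeCore 2 G), MonoidHom.mem_ker]
        simp only [map_mul, map_inv]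
        rw [show QuotientGroup.mk' _ r * QuotientGroup.mk' _ g =
          QuotientGroup.mk' _ g * QuotientGroup.mk' _ r from
            mem_centralizer_iff.1 hq' (f r) ⟨r, hr, rfl⟩]
        group)
    refine ⟨c, mem_centralizer_iff.2 hc1, ?_⟩
    have : f (g⁻¹ * c) = 1 := (QuotientGroup.eq_one_iff _).2 hc2
    rw [map_mul, map_inv, inv_mul_eq_one] at this
    exact this.symm
  have hlay := le_layer (Fitting.pPrimeCore_quotient_eq_bot 2) (hR.map f)
    (h1.symm ▸ map_mono hMR) (h1.symm ▸ BBalance.subnormal_map hMR f hsub) hM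
  refine hq.2.2.trans ?_
  refine le_trans (PComp.pGen_mono 2 ?_)
    (PComp.pGen_le_of_subnormal_sup (H := Cfsg.pLayer 2 G) (O := Cfsg.pPrimeCore 2 G)
      (ExtTwoLayer.pLayer_normal 2).isSubnormal (Solvable.coprime_card_pPrimeCore 2) le_rfl)
  have h5 := map_le_iff_le_comap.1 (hlay.trans (PComp.map_pLayer 2).ge)
  rwa [comap_map_eq, QuotientGroup.ker_mk'] at h5

/-- L-balance for the centralizer of a `2`-group. -/
theorem pLayer_centralizer_le {R : Subgroup G} (hR : IsPGroup 2 R) :
    (Cfsg.pLayer 2 ↥(centralizer (R : Set G))).map (centralizer (R : Set G)).subtype ≤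
      Cfsg.pLayer 2 G := by
  set C := centralizer (R : Set G) with hC
  rw [map_le_iff_le_comap]
  refine PComp.pLayer_le 2 fun J hJ => ?_
  rw [← map_le_iff_le_comap]
  refine quasi_le_pLayer hR (map_subtype_le J) ?_ ((quasi_of_pComponent hJ).map C.subtype (by
    rw [Subgroup.ker_subtype C, inf_bot_eq, card_bot]; exact Nat.coprime_one_left _))
  rw [← hC, subgroupOf, comap_map_eq_self_of_injective C.subtype_injective]
  exact hJ.1

end CfsgLib.Balance2
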