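import Cfsg.Agent.Balance2.Balance

/-!
The induction for balance at the prime `2`.
-/

set_option autoImplicit false
set_option linter.unusedSectionVars false
set_option linter.style.haveILetI false

namespace CfsgLib.Balance2

open Subgroup CfsgLib.Functor CfsgLib.LocalBalance
open scoped CfsgLib.Functor commutatorElement

universe u

variable {G : Type u} [Group G] [Finite G] [Fact (Nat.Prime 2)]
variable {K R X : Subgroup G} [K.Normal]

/-- A subgroup of the partial solutions: it covers `X` modulo `K` and satisfies the hypothesis. -/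
structure Good (K R X X' : Subgroup G) : Prop where
  cR : X' ≤ centralizer (R : Set G)
  perfect : ⁅X', X'⁆ = X'
  gen : X' ≤ PComp.pGen 2 X'
  le_sup : X ≤ X' ⊔ K
  mod : X' ≤ modCent (K ⊓ centralizer (R : Set G))

/-- A perfect group whose image centralizes a Sylow `2`-subgroup centralizes the subgroup. -/
theorem le_centralizer_of_sylow {K S X : Subgroup G} [K.Normal] (hO : core 2 K = ⊥)
    (hZ : K ⊓ centralizer (K : Set G) = ⊥) (hS : IsSylowIn 2 S K)
    (hXS : X ≤ centralizer (S : Set G)) (hX : ⁅X, X⁆ = X) (hX2 : X ≤ PComp.pGen 2 X) :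
    X ≤ centralizer (K : Set G) := by
  haveI : (centralizer (K : Set G)).Normal := inferInstance
  set f := QuotientGroup.mk' (centralizer (K : Set G)) with hf
  haveI : (K.map f).Normal := Normal.map inferInstance f (QuotientGroup.mk'_surjective _)
  have hC : centralizer ((K.map f : Subgroup _) : Set (G ⧸ centralizer (K : Set G))) = ⊥ := by
    rw [eq_bot_iff]
    intro q hq
    obtain ⟨g, rfl⟩ := QuotientGroup.mk'_surjective _ q
    refine mem_bot.2 ((QuotientGroup.eq_one_iff g).2 (mem_centralizer_iff.2 fun k hk => ?_))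
    have h1 : f (g * k * g⁻¹ * k⁻¹) = 1 := by
      have := mem_centralizer_iff.1 hq (f k) ⟨k, hk, rfl⟩
      simp only [map_mul, map_inv]
      rw [← hf] at this
      rw [← this]
      group
    have h2 : g * k * g⁻¹ * k⁻¹ ∈ K ⊓ centralizer (K : Set G) := mem_inf.2
      ⟨mul_mem ((inferInstance : K.Normal).conj_mem k hk g) (inv_mem hk),
        (QuotientGroup.eq_one_iff _).1 h1⟩
    rw [hZ, mem_bot, mul_inv_eq_one, mul_inv_eq_iff_eq_mul] at h2
    exact h2.symm
  have hO' : core 2 (K.map f) = ⊥ := by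
    set N := (core 2 (K.map f)).comap f ⊓ K with hN
    have hNc : (Nat.card N).Coprime 2 := by
      have hinj : Function.Injective (f.comp N.subtype) := by
        refine (injective_iff_map_eq_one _).2 fun x hx => Subtype.ext ?_
        have h1 : (x : G) ∈ K ⊓ centralizer (K : Set G) :=
          mem_inf.2 ⟨x.2.2, (QuotientGroup.eq_one_iff (x : G)).1 hx⟩
        rwa [hZ, mem_bot] at h1
      refine (coprime_core (K.map f)).coprime_dvd_left ?_
      rw [← range_subtype N, Nat.card_congr (MonoidHom.ofInjective N.subtype_injective).symm.toEquiv,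
        Nat.card_congr (MonoidHom.ofInjective hinj).toEquiv]
      refine card_dvd_of_le ?_
      rintro _ ⟨x, rfl⟩
      exact x.2.1
    have hle : N ≤ core 2 K := le_core inf_le_right
      ((le_inf ((map_le_iff_le_comap.1 (le_normalizer.trans
        (normalizer_le_normalizer_core (K.map f)))).trans (le_normalizer_comap f))
        le_normalizer).trans inf_normalizer_le_normalizer_inf) hNc
    rw [eq_bot_iff]
    intro q hq
    obtain ⟨k, hk, rfl⟩ := core_le _ hq
    have : k ∈ core 2 K := hle ⟨hq, hk⟩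
    rw [hO, mem_bot] at this
    rw [this, map_one]
    exact one_mem _
  have h := eq_bot_of_centralizes hO' hC (hS.map f)
    (map_le_centralizer f hXS) (X := X.map f) (by rw [← map_commutator, hX]) (map_pGen f hX2)
  rw [Subgroup.map_eq_bot_iff, hf, QuotientGroup.ker_mk'] at h
  exact h

variable (hR : IsPGroup 2 R) (hXR : X ≤ centralizer (R : Set G)) (hX : ⁅X, X⁆ = X)
  (hX2 : X ≤ PComp.pGen 2 X) (hmod : X ≤ modCent (K ⊓ centralizer (R : Set G)))
  (ih : ∀ m < Nat.card K, Stmt.{u} m)

include hR hXR hX hX2 hmod ih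

/-- The case `O₂(K) = O(K) = 1`. -/
theorem case_semisimple (hO : core 2 K = ⊥)
    (hO2 : ∀ P : Subgroup G, P ≤ K → K ≤ normalizer (P : Set G) → IsPGroup 2 P → P = ⊥) :
    X ≤ centralizer (K : Set G) := by
  rcases eq_or_ne K ⊥ with rfl | hK
  · intro x _
    exact mem_centralizer_iff.2 fun k hk => by
      rw [mem_bot.1 hk]; simp
  set D := K ⊓ centralizer (R : Set G) with hD
  set O := core 2 D with hOD
  have hZ : K ⊓ centralizer (K : Set G) = ⊥ := by
    obtain ⟨T, hT⟩ := exists_sylowIn (p := 2) (K ⊓ centralizer (K : Set G))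
    have hKT : K ≤ normalizer (T : Set G) := by
      intro k hk
      refine centralizer_le_normalizer _ (mem_centralizer_iff.2 fun t ht => ?_)
      exact (mem_centralizer_iff.1 (hT.le ht).2 k hk).symm
    have hT1 := hO2 T (hT.le.trans inf_le_left) hKT hT.isPGroup
    have h2 := hT.2.2
    rw [hT1, relIndex_bot_left] at h2
    have h3 : K ⊓ centralizer (K : Set G) ≤ core 2 K := le_core inf_le_left
      ((le_inf le_normalizer le_normalizer_of_normal).trans inf_normalizer_le_normalizer_inf)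
      ((Nat.prime_two.coprime_iff_not_dvd.2 h2).symm)
    rwa [hO, le_bot_iff] at h3
  have hOn : X ⊔ O ≤ normalizer (O : Set G) :=
    sup_le ((hmod.trans (modCent_le D)).trans (normalizer_le_normalizer_core D)) le_normalizer
  -- the first step
  obtain ⟨P₀, hP₀⟩ := exists_sylowIn (p := 2) D
  have hP₀1 : P₀ ≠ ⊥ := by
    intro h
    have h2 : ¬ 2 ∣ Nat.card K := by
      intro h2K
      obtain ⟨e, he⟩ := exists_prime_orderOf_dvd_card' 2 h2K
      have he2 : (e : G) ^ 2 ^ 1 = 1 := by
        rw [pow_one, ← he, ← orderOf_coe]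
        exact pow_orderOf_eq_one _
      have he1 : (e : G) ∉ (⊥ : Subgroup G) := by
        rw [mem_bot]
        intro h1
        rw [← orderOf_coe, h1, orderOf_one] at he
        norm_num at he
      obtain ⟨d, hd, ⟨j, hj⟩, hd1, hdR⟩ := exists_fixed_mod (E := K) (N := ⊥) hR
        le_normalizer_of_normal le_normalizer_of_normal le_normalizer_of_normal e.2 he2 he1
      have hdD : d ∈ D := mem_inf.2 ⟨hd, mem_centralizer_iff.2 fun r hr => by
        have := mem_bot.1 (hdR r hr)
        rw [inv_mul_eq_one, eq_mul_inv_iff_mul_eq] at this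
        exact this⟩
      obtain ⟨n, -, hn⟩ := hP₀.exists_cj_le (isPGroup_zpowers hj) (zpowers_le.2 hdD)
      rw [h, le_bot_iff, map_eq_bot_iff_of_injective _ (MulAut.conj n).injective, zpowers_eq_bot] at hn
      exact hd1 (mem_bot.2 hn)
    refine hK (le_bot_iff.1 ?_)
    rw [← hO]
    exact le_core le_rfl le_normalizer ((Nat.prime_two.coprime_iff_not_dvd.2 h2).symm)
  have hbase : ∃ X', Good K R X X' ∧ X' ≤ centralizer (P₀ : Set G) := by
    set W := (X ⊔ O) ⊓ normalizer (P₀ : Set G) with hW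
    have hXW : X ≤ W ⊔ O := by
      intro x hx
      have hxn : x ∈ normalizer (D : Set G) := (hmod hx).1
      have hcj : x ⋆ P₀ ≤ P₀ ⊔ O := by
        rw [cj_le_iff]
        intro p hp
        rw [← inv_mul_cancel_right (x * p * x⁻¹) p]
        exact mul_mem (mem_sup_right ((hmod hx).2 p (hP₀.le hp))) (mem_sup_left hp)
      have hB : IsSylowIn 2 P₀ (P₀ ⊔ O) :=
        hP₀.of_le le_sup_left (sup_le hP₀.le (core_le D))
      obtain ⟨b, hb, hbx⟩ := hB.exists_cj_eq
        ((hP₀.cj_of_mem hxn).of_le hcj (sup_le hP₀.le (core_le D)))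
      have hb' : b ∈ ((P₀ ⊔ O : Subgroup G) : Set G) := hb
      rw [coe_mul_of_left_le_normalizer_right _ _
        (hP₀.le.trans (le_normalizer.trans (normalizer_le_normalizer_core D)))] at hb'
      obtain ⟨p, hp, o, ho, rfl⟩ := hb'
      rw [cj_cj] at hbx
      have hox : o * x ∈ normalizer (P₀ : Set G) := by
        have h1 := mul_mem (inv_mem (le_normalizer hp)) (mem_normalizer_iff_cj.2 hbx)
        rwa [show p⁻¹ * (p * o * x) = o * x by group] at h1
      rw [← inv_mul_cancel_left o x]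
      exact mul_mem (mem_sup_right (inv_mem ho))
        (mem_sup_left ⟨mul_mem (mem_sup_right ho) (mem_sup_left hx), hox⟩)
    obtain ⟨X', hX'W, hX'p, hX'g, hXX'⟩ :=
      exists_perfect_part hX hX2 (inf_le_left.trans hOn) hXW
    have hWmod : X' ≤ modCent D := by
      refine le_modCent_of_le_sup hX'g (coprime_core D) ((core_le D).trans le_normalizer) ?_
      exact (hX'W.trans inf_le_left).trans (sup_le_sup_right hmod _)
    refine ⟨X', ⟨(hX'W.trans inf_le_left).trans (sup_le hXR ((core_le D).trans inf_le_right)),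
      hX'p, hX'g, hXX'.trans (sup_le_sup_left ((core_le D).trans inf_le_left) _), hWmod⟩,
      fun w hw => mem_centralizer_iff.2 fun p hp => ?_⟩
    have h1 : w * p * w⁻¹ * p⁻¹ ∈ P₀ ⊓ core 2 D := mem_inf.2
      ⟨mul_mem ((mem_normalizer_iff.1 (hX'W hw).2 p).1 hp) (inv_mem hp),
        (hWmod hw).2 p (hP₀.le hp)⟩
    rw [inf_eq_bot_of_two hP₀.isPGroup (coprime_core D), mem_bot, mul_inv_eq_one,
      mul_inv_eq_iff_eq_mul] at h1
    exact h1.symm
  -- the largest centralized subgroup
  let 𝒬 : Set (Subgroup G) := {Q | Q ≤ K ∧ IsPGroup 2 Q ∧ R ≤ normalizer (Q : Set G) ∧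
    ∃ X', Good K R X X' ∧ X' ≤ centralizer (Q : Set G)}
  have hP₀Q : P₀ ∈ 𝒬 := ⟨hP₀.le.trans inf_le_left, hP₀.isPGroup, fun r hr => by
    refine centralizer_le_normalizer _ (mem_centralizer_iff.2 fun p hp => ?_)
    exact (mem_centralizer_iff.1 (hP₀.le hp).2 r hr).symm, hbase⟩
  obtain ⟨Q, hQ, hQmax⟩ := Set.exists_max_image 𝒬 (fun Q : Subgroup G => Nat.card Q)
    (Set.toFinite _) ⟨P₀, hP₀Q⟩
  obtain ⟨hQK, hQp, hRQ, X', hX', hX'Q⟩ := hQ
  have hQ1 : Q ≠ ⊥ := by
    intro h
    have := hQmax P₀ hP₀Q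
    simp only [h, card_bot] at this
    exact hP₀1 (card_eq_one.1 (le_antisymm this Nat.card_pos))
  set N := K ⊓ normalizer (Q : Set G) with hN
  have hNK : Nat.card N < Nat.card K := by
    refine lt_of_le_of_ne (card_le_of_le inf_le_left) fun h => hQ1 (hO2 Q hQK ?_ hQp)
    exact (eq_of_le_of_card_le' (inf_le_left : N ≤ K) h.ge).ge.trans inf_le_right
  have hRN : R ≤ normalizer (N : Set G) :=
    (le_inf le_normalizer_of_normal (hRQ.trans le_normalizer)).trans inf_normalizer_le_normalizer_inf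
  have hX'N : X' ≤ normalizer (N : Set G) :=
    (le_inf le_normalizer_of_normal ((hX'Q.trans (centralizer_le_normalizer _)).trans
      le_normalizer)).trans inf_normalizer_le_normalizer_inf
  have hmodN : X' ≤ modCent N := step (ih _ hNK) hR hX'.cR hX'.perfect hX'.gen hRN hX'N
    (modCent_sub inf_le_left hX'.cR hX'N hX'.mod)
  -- an `R`-invariant Sylow subgroup of `N`
  obtain ⟨T, hT, hRT⟩ := exists_sylowIn_ge (H := N ⊔ R) hR le_sup_right
  set P₁ := T ⊓ N with hP₁def
  have hP₁ : IsSylowIn 2 P₁ N := hT.inf_normal le_sup_left (sup_le le_normalizer hRN)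
  have hRP₁ : R ≤ normalizer (P₁ : Set G) :=
    (le_inf (hRT.trans le_normalizer) hRN).trans inf_normalizer_le_normalizer_inf
  have hQP₁ : Q ≤ P₁ := by
    obtain ⟨n, hn, hle⟩ := hP₁.exists_cj_le hQp (le_inf hQK le_normalizer)
    rwa [mem_normalizer_iff_cj.1 hn.2] at hle
  set OR' := core 2 N ⊓ centralizer (R : Set G) with hOR
  set W := (X' ⊔ OR') ⊓ normalizer (P₁ : Set G) with hW
  have hX'OR : X' ⊔ OR' ≤ normalizer (OR' : Set G) := sup_le
    ((le_inf (hX'N.trans (normalizer_le_normalizer_core N)) (hX'.cR.trans le_normalizer)).trans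
      inf_normalizer_le_normalizer_inf) le_normalizer
  have hX'W : X' ≤ W ⊔ OR' := by
    intro x hx
    set ON := core 2 N with hON
    have hxn : x ∈ normalizer (N : Set G) := hX'N hx
    have hcj : x ⋆ P₁ ≤ P₁ ⊔ ON := by
      rw [cj_le_iff]
      intro p hp
      rw [← inv_mul_cancel_right (x * p * x⁻¹) p]
      exact mul_mem (mem_sup_right ((hmodN hx).2 p (hP₁.le hp))) (mem_sup_left hp)
    have hB : IsSylowIn 2 P₁ (P₁ ⊔ ON) := hP₁.of_le le_sup_left (sup_le hP₁.le (core_le N))
    obtain ⟨b, hb, hbx⟩ := hB.exists_cj_eq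
      ((hP₁.cj_of_mem hxn).of_le hcj (sup_le hP₁.le (core_le N)))
    have hb' : b ∈ ((P₁ ⊔ ON : Subgroup G) : Set G) := hb
    rw [coe_mul_of_left_le_normalizer_right _ _
      (hP₁.le.trans (le_normalizer.trans (normalizer_le_normalizer_core N)))] at hb'
    obtain ⟨p, hp, o, ho, rfl⟩ := hb'
    rw [cj_cj] at hbx
    have hox : o * x ∈ normalizer (P₁ : Set G) := by
      have h1 := mul_mem (inv_mem (le_normalizer hp)) (mem_normalizer_iff_cj.2 hbx)
      rwa [show p⁻¹ * (p * o * x) = o * x by group] at h1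
    haveI := hR.isNilpotent
    obtain ⟨j, hj⟩ := IsPGroup.iff_card.1 hR
    have hRON : R ≤ normalizer (ON : Set G) := hRN.trans (normalizer_le_normalizer_core N)
    obtain ⟨c, hc1, hc2⟩ := CfsgLib.Coprime.exists_commute_mem_coset R
      (normalizer (P₁ : Set G) ⊓ ON)
      ((le_inf (hRP₁.trans le_normalizer) hRON).trans inf_normalizer_le_normalizer_inf)
      (hj ▸ (((coprime_core N).coprime_dvd_left (card_dvd_of_le inf_le_right)).pow_right j).symm)
      (o * x)⁻¹ (fun r hr => by
        have hrx : r * x = x * r := mem_centralizer_iff.1 (hX'.cR hx) r hr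
        refine mem_inf.2 ⟨?_, ?_⟩
        · rw [inv_inv]
          exact mul_mem hox (mul_mem (mul_mem (hRP₁ hr) (inv_mem hox)) (inv_mem (hRP₁ hr)))
        · have h3 : (o * x)⁻¹⁻¹ * (r * (o * x)⁻¹ * r⁻¹) = o * (r * o⁻¹ * r⁻¹) := by
            rw [inv_inv]
            calc o * x * (r * (o * x)⁻¹ * r⁻¹) = o * (x * r) * x⁻¹ * o⁻¹ * r⁻¹ := by group
              _ = o * (r * o⁻¹ * r⁻¹) := by rw [← hrx]; group
          rw [h3]
          exact mul_mem ho ((mem_normalizer_iff.1 (hRON hr) _).1 (inv_mem ho)))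
    rw [inv_inv] at hc2
    have hcn : c⁻¹ ∈ normalizer (P₁ : Set G) := inv_mem (by
      have h1 := mul_mem (inv_mem hox) hc2.1
      rwa [show (o * x)⁻¹ * (o * x * c) = c by group] at h1)
    have hn : c⁻¹ * x⁻¹ ∈ OR' := by
      refine mem_inf.2 ⟨?_, mem_centralizer_iff.2 fun r hr => ?_⟩
      · rw [show c⁻¹ * x⁻¹ = (o * x * c)⁻¹ * o by group]
        exact mul_mem (inv_mem hc2.2) ho
      · have hrx : Commute r x := mem_centralizer_iff.1 (hX'.cR hx) r hr
        have hrc : Commute r c := hc1 r hr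
        exact (hrc.inv_right.mul_right hrx.inv_right).eq
    have hcW : c⁻¹ ∈ W := mem_inf.2 ⟨by
      have h1 := mul_mem (mem_sup_right (S := X') hn) (mem_sup_left (T := OR') hx)
      rwa [inv_mul_cancel_right] at h1, hcn⟩
    have h1 := mul_mem (mem_sup_right (S := W) (inv_mem hn)) (mem_sup_left (T := OR') hcW)
    rwa [show (c⁻¹ * x⁻¹)⁻¹ * c⁻¹ = x by group] at h1
  obtain ⟨X'', hX''W, hX''p, hX''g, hX'X''⟩ :=
    exists_perfect_part hX'.perfect hX'.gen (inf_le_left.trans hX'OR) hX'W
  have hORK : OR' ≤ K := inf_le_left.trans ((core_le N).trans inf_le_left)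
  have hgood : Good K R X X'' := by
    refine ⟨(hX''W.trans inf_le_left).trans (sup_le hX'.cR inf_le_right), hX''p, hX''g,
      hX'.le_sup.trans (sup_le (hX'X''.trans (sup_le_sup_left hORK _)) le_sup_right), ?_⟩
    exact le_modCent_of_le_sup hX''g ((coprime_core N).coprime_dvd_left (card_dvd_of_le inf_le_left))
      ((le_inf hORK inf_le_right).trans le_normalizer)
      ((hX''W.trans inf_le_left).trans (sup_le_sup_right hX'.mod _))
  have hX''P₁ : X'' ≤ centralizer (P₁ : Set G) := by
    have hXN : X'' ≤ modCent N := le_modCent_of_le_sup hX''g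
      ((coprime_core N).coprime_dvd_left (card_dvd_of_le inf_le_left))
      ((inf_le_left.trans (core_le N)).trans le_normalizer)
      ((hX''W.trans inf_le_left).trans (sup_le_sup_right hmodN _))
    intro w hw
    refine mem_centralizer_iff.2 fun p hp => ?_
    have h1 : w * p * w⁻¹ * p⁻¹ ∈ P₁ ⊓ core 2 N := mem_inf.2
      ⟨mul_mem ((mem_normalizer_iff.1 (hX''W hw).2 p).1 hp) (inv_mem hp),
        (hXN hw).2 p (hP₁.le hp)⟩
    rw [inf_eq_bot_of_two hP₁.isPGroup (coprime_core N), mem_bot, mul_inv_eq_one,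
      mul_inv_eq_iff_eq_mul] at h1
    exact h1.symm
  have hQeq : Q = P₁ := eq_of_le_of_card_le' hQP₁ (hQmax P₁
    ⟨hP₁.le.trans inf_le_left, hP₁.isPGroup, hRP₁, X'', hgood, hX''P₁⟩)
  obtain ⟨S, hS, hQS⟩ := exists_sylowIn_ge hQp hQK
  have hQsyl : IsSylowIn 2 Q K := by
    rcases eq_or_lt_of_le hQS with h | h
    · exact h ▸ hS
    exfalso
    have h1 := lt_inf_normalizer hS.isPGroup h
    have h2 := (hP₁.eq_of_le (Q := S ⊓ normalizer (Q : Set G)) (hS.isPGroup.to_le inf_le_left)
      (inf_le_inf_right _ hS.le) (hQeq.ge.trans h1.le))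
    exact h1.ne (hQeq.trans h2)
  -- conclusion
  have hX'K : X' ≤ centralizer (K : Set G) :=
    le_centralizer_of_sylow hO hZ hQsyl hX'Q hX'.perfect hX'.gen
  have hXD : X ≤ centralizer (K : Set G) ⊔ D := by
    intro x hx
    have hx' : x ∈ ((centralizer (K : Set G) ⊔ K : Subgroup G) : Set G) :=
      (hX'.le_sup.trans (sup_le_sup_right hX'K K)) hx
    rw [normal_mul] at hx'
    obtain ⟨z, hz, k, hk, rfl⟩ := hx'
    refine mul_mem (mem_sup_left hz) (mem_sup_right (mem_inf.2 ⟨hk, mem_centralizer_iff.2 fun r hr => ?_⟩))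
    have hrx : r * (z * k) = z * k * r := mem_centralizer_iff.1 (hXR hx) r hr
    have e1 : r * k * r⁻¹ * k⁻¹ = (r * z * r⁻¹)⁻¹ * z := by
      calc r * k * r⁻¹ * k⁻¹ = (r * z * r⁻¹)⁻¹ * (r * (z * k)) * r⁻¹ * k⁻¹ := by group
        _ = (r * z * r⁻¹)⁻¹ * z := by rw [hrx]; group
    have h2 : r * k * r⁻¹ * k⁻¹ ∈ K ⊓ centralizer (K : Set G) := mem_inf.2
      ⟨mul_mem ((inferInstance : K.Normal).conj_mem k hk r) (inv_mem hk),
        e1 ▸ mul_mem (inv_mem ((inferInstance : (centralizer (K : Set G)).Normal).conj_mem z hz r)) hz⟩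
    rw [hZ, mem_bot, mul_inv_eq_one, mul_inv_eq_iff_eq_mul] at h2
    exact h2
  set f := QuotientGroup.mk' (centralizer (K : Set G)) with hf
  have hf1 : X.map f ≤ O.map f := by
    conv_lhs => rw [← hX]
    rw [map_commutator, commutator_le]
    rintro _ ⟨x, hx, rfl⟩ _ ⟨y, hy, rfl⟩
    have hy' : y ∈ ((centralizer (K : Set G) ⊔ D : Subgroup G) : Set G) := hXD hy
    rw [normal_mul] at hy'
    obtain ⟨z, hz, d, hd, rfl⟩ := hy'
    have hfy : f (z * d) = f d := by
      rw [map_mul, show f z = 1 from (QuotientGroup.eq_one_iff z).2 hz, one_mul]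
    rw [hfy, ← map_commutatorElement, commutatorElement_def]
    exact mem_map_of_mem f ((hmod hx).2 d hd)
  refine hX2.trans ((closure_le _).2 ?_)
  rintro x ⟨hx, k, hk⟩
  refine (QuotientGroup.eq_one_iff x).1 (eq_one_of_coprime (p := 2) (k := k)
    ((coprime_core D).coprime_dvd_left (card_map_dvd _ _)) (hf1 (mem_map_of_mem f hx)) ?_)
  show f x ^ 2 ^ k = 1
  rw [← map_pow, hk, map_one]

omit hR hXR hX hX2 hmod ih

/-- Balance at the prime `2`. -/
theorem stmt : ∀ n : ℕ, Stmt.{u} n := by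
  intro n
  induction n using Nat.strongRecOn with
  | ind n ih =>
    intro Y _ _ K R X hn hKn hR hXR hX hX2 hmod
    subst hn
    by_cases hO : core 2 K = ⊥
    swap
    · exact case_core hR hXR hX hX2 hmod ih hO
    suffices h : X ≤ centralizer (K : Set Y) by
      intro x hx
      refine ⟨le_normalizer_of_normal (mem_top x), fun k hk => ?_⟩
      rw [show x * k * x⁻¹ * k⁻¹ = 1 by
        rw [mul_inv_eq_one, mul_inv_eq_iff_eq_mul]
        exact (mem_centralizer_iff.1 (h hx) k hk).symm]
      exact one_mem _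
    set P := (Cfsg.pCore 2 K).map K.subtype with hPdef
    have hPK : P ≤ K := map_subtype_le _
    have hPp : IsPGroup 2 P := (Solvable.isPGroup_pCore 2).map _
    have hPmax : ∀ Q : Subgroup Y, Q ≤ K → K ≤ normalizer (Q : Set Y) → IsPGroup 2 Q → Q ≤ P := by
      intro Q hQK hQn hQp
      rw [← map_subgroupOf_eq_of_le hQK, hPdef]
      exact map_mono (Solvable.le_pCore 2 ((normal_subgroupOf_iff_le_normalizer hQK).2 hQn)
        hQp.comap_subtype)
    have hKP : K ≤ normalizer (P : Set Y) := fun k hk => le_normalizer_map K.subtype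
      ⟨⟨k, hk⟩, @le_normalizer_of_normal _ _ _ _ (Solvable.pCore_spec (G := ↥K) 2).1 _ (mem_top _), rfl⟩
    haveI : P.Normal := by
      refine normalizer_eq_top_iff.1 (eq_top_iff.2 fun g _ => ?_)
      refine BBalance.conj_le_imp_normalizer fun d hd => ?_
      refine hPmax (g ⋆ P) ?_ ?_ (isPGroup_cj g hPp) (conj_mem_cj hd)
      · rw [cj_le_iff]
        exact fun p hp => hKn.conj_mem p (hPK hp) g
      · rw [← cj_normalizer]
        intro k hk
        rw [mem_cj]
        refine hKP ?_
        simpa using hKn.conj_mem k hk g⁻¹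
    rcases eq_or_ne P K with hPeq | hPne
    · exact case_pgroup hR hXR hX hX2 hmod ih (hPeq ▸ hPp)
    rcases eq_or_ne P ⊥ with hP1 | hP1
    · exact case_semisimple hR hXR hX hX2 hmod ih hO fun Q h1 h2 h3 =>
        le_bot_iff.1 (hP1 ▸ hPmax Q h1 h2 h3)
    by_cases hcen : K ≤ centralizer (P : Set Y)
    · exact case_central hR hXR hX hX2 hmod ih hO hPp hPK hPne hP1 hcen
    set C := K ⊓ centralizer (P : Set Y) with hC
    haveI : C.Normal := Subgroup.normal_inf_normal _ _
    have hXC := centralizes_of_lt hR hXR hX hX2 hmod ih (inf_le_left : C ≤ K) hO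
      (fun h => hcen (h.ge.trans inf_le_right))
    have hXP := centralizes_of_lt hR hXR hX hX2 hmod ih hPK hO hPne
    refine le_centralizer_of_central hX fun x hx k hk => ?_
    refine mem_centralizer_iff.2 fun y hy => (mem_centralizer_iff.1 (hXC hy) _ ?_).symm
    refine mem_inf.2 ⟨mul_mem (hKn.conj_mem k hk x) (inv_mem hk),
      mem_centralizer_iff.2 fun p hp => ?_⟩
    have e1 : p * x = x * p := mem_centralizer_iff.1 (hXP hx) p hp
    have hp' : k⁻¹ * p * k ∈ P := by simpa using (inferInstance : P.Normal).conj_mem p hp k⁻¹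
    have e2 : k⁻¹ * p * k * x = x * (k⁻¹ * p * k) := mem_centralizer_iff.1 (hXP hx) _ hp'
    calc p * (x * k * x⁻¹ * k⁻¹) = x * p * k * x⁻¹ * k⁻¹ := by
          rw [← mul_assoc, ← mul_assoc, ← mul_assoc, e1]
      _ = x * k * ((k⁻¹ * p * k) * x⁻¹) * k⁻¹ := by group
      _ = x * k * (x⁻¹ * (k⁻¹ * p * k)) * k⁻¹ := by rw [(Commute.inv_right e2).eq]
      _ = x * k * x⁻¹ * k⁻¹ * p := by group

/-- **Balance at the prime `2`.** A perfect subgroup generated by `2`-elements of `C(R)`
centralizing `C_K(R)` modulo its core centralizes `K` modulo its core. -/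
theorem balance {K R X : Subgroup G} [K.Normal] (hR : IsPGroup 2 R)
    (hXR : X ≤ centralizer (R : Set G)) (hX : ⁅X, X⁆ = X) (hX2 : X ≤ PComp.pGen 2 X)
    (hmod : X ≤ modCent (K ⊓ centralizer (R : Set G))) : X ≤ modCent K :=
  stmt _ K R X rfl inferInstance hR hXR hX hX2 hmod

end CfsgLib.Balance2
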