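import Cfsg.Agent.LocalB.StrongAlperin

/-!
Fusion of a single element through the essential subgroups of a Sylow subgroup.
-/

set_option autoImplicit false
set_option linter.unusedSectionVars false

namespace CfsgLib.Balance2

open Subgroup CfsgLib.Functor CfsgLib.StrongAlperin
open scoped CfsgLib.Functor

variable {G : Type*} [Group G] [Finite G] {p : ℕ} [Fact p.Prime]

/-- `H ≤ P` is centric, and a normal subgroup of `N(H)` over `C(H)` that is a `p`-group modulo
`C(H)` lies in `H C(H)`. -/
structure Radical (P : Sylow p G) (H : Subgroup G) : Prop where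
  le : H ≤ (P : Subgroup G)
  cen : (P : Subgroup G) ⊓ centralizer (H : Set G) ≤ H
  syl : IsSylowIn p ((P : Subgroup G) ⊓ normalizer (H : Set G)) (normalizer (H : Set G))
  stab : ∀ E : Subgroup G, E ≤ normalizer (H : Set G) →
    normalizer (H : Set G) ≤ normalizer (E : Set G) → centralizer (H : Set G) ≤ E →
    (∀ e ∈ E, ∃ k : ℕ, e ^ p ^ k ∈ centralizer (H : Set G)) →
    E ≤ H ⊔ centralizer (H : Set G)

/-- The Sylow subgroup of a subgroup `E` that is a `p`-group modulo `C` supplements `C`. -/
theorem le_sup_of_pow_mem {C E W : Subgroup G} (hCE : C ≤ E) (hEn : E ≤ normalizer (C : Set G))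
    (hW : IsSylowIn p W E) (h : ∀ e ∈ E, ∃ k : ℕ, e ^ p ^ k ∈ C) : E ≤ C ⊔ W := by
  haveI hn : (C.subgroupOf E).Normal := (normal_subgroupOf_iff_le_normalizer hCE).2 hEn
  have hq : IsPGroup p (↥E ⧸ C.subgroupOf E) := by
    intro q
    obtain ⟨e, rfl⟩ := QuotientGroup.mk'_surjective _ q
    obtain ⟨k, hk⟩ := h e e.2
    refine ⟨k, ?_⟩
    rw [← map_pow]
    exact (QuotientGroup.eq_one_iff _).2 (by simpa [mem_subgroupOf] using hk)
  obtain ⟨n, hn'⟩ := IsPGroup.iff_card.1 hq
  have hidx : C.relIndex E = p ^ n := hn'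
  refine relIndex_eq_one.1 (Nat.eq_one_of_dvd_coprimes (Nat.Coprime.pow_left n
    ((Fact.out : p.Prime).coprime_iff_not_dvd.2 hW.2.2)) ?_ ?_)
  · rw [← hidx]; exact relIndex_dvd_of_le_left _ le_sup_left
  · exact relIndex_dvd_of_le_left _ le_sup_right

theorem radical_of_ess {P : Sylow p G} {H : Subgroup G} (h : Ess P H) : Radical P H := by
  refine ⟨h.le, h.cen, h.syl, fun E hEN hNE hCE hp => ?_⟩
  set C := centralizer (H : Set G)
  set T := (P : Subgroup G) ⊓ normalizer (H : Set G)
  have hCn : normalizer (H : Set G) ≤ normalizer (C : Set G) := fun x hx => by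
    rw [mem_normalizer_iff_cj, cj_centralizer, mem_normalizer_iff_cj.1 hx]
  have hW := h.syl.inf_normal hEN hNE
  have hsup : E ≤ C ⊔ (T ⊓ E) := le_sup_of_pow_mem hCE (hEN.trans hCn) hW hp
  by_cases hle : T ⊓ E ≤ H
  · exact hsup.trans (sup_le le_sup_right (hle.trans le_sup_left))
  exfalso
  have hlt : H < H ⊔ (T ⊓ E) := lt_of_le_of_ne le_sup_left fun e => hle (le_sup_right.trans e.ge)
  have hEg : E ≤ gen P H :=
    hsup.trans (sup_le le_sup_left (inf_le_left.trans (sylow_le_gen h.lt)))
  refine h.not_le fun n hn => ?_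
  obtain ⟨y, hy, he⟩ := hW.exists_cj_eq (hW.cj_of_mem (inv_mem (hNE hn)))
  have hfix : ∀ {x : G}, x ∈ normalizer (H : Set G) → x ⋆ H = H := fun hx =>
    mem_normalizer_iff_cj.1 hx
  have := le_sup_gen_of_conj (P := P) hEN hlt (sup_le h.lt.le inf_le_left) hn hy (by
    rw [Subgroup.map_sup, Subgroup.map_sup, hfix (inv_mem hn), hfix (hEN hy), he])
  rwa [sup_eq_right.2 hEg] at this

theorem radical_self (P : Sylow p G) : Radical P (P : Subgroup G) := by
  have hsyl : IsSylowIn p ((P : Subgroup G) ⊓ normalizer ((P : Subgroup G) : Set G))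
      (normalizer ((P : Subgroup G) : Set G)) := by
    rw [inf_eq_left.2 le_normalizer]
    exact (isSylowIn_top P).of_le le_normalizer le_top
  refine ⟨le_rfl, inf_le_left, hsyl, fun E hEN hNE hCE hp => ?_⟩
  have hCn : normalizer ((P : Subgroup G) : Set G) ≤
      normalizer (centralizer ((P : Subgroup G) : Set G) : Set G) := fun x hx => by
    rw [mem_normalizer_iff_cj, cj_centralizer, mem_normalizer_iff_cj.1 hx]
  have hW := hsyl.inf_normal hEN hNE
  exact (le_sup_of_pow_mem hCE (hEN.trans hCn) hW hp).trans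
    (sup_le le_sup_right ((inf_le_left.trans inf_le_left).trans le_sup_left))

/-- An element fixed by the normalizers of all radical subgroups over it is weakly closed. -/
theorem conj_eq_of_radical (P : Sylow p G) {t : G} (htP : t ∈ (P : Subgroup G))
    (h : ∀ H : Subgroup G, Radical P H → t ∈ H → ∀ n ∈ normalizer (H : Set G), n * t * n⁻¹ = t)
    {g : G} (hg : g * t * g⁻¹ ∈ (P : Subgroup G)) : g * t * g⁻¹ = t := by
  set A := zpowers t
  have hA : A ≤ (P : Subgroup G) := zpowers_le.2 htP
  have hgA : g⁻¹⁻¹ ⋆ A ≤ (P : Subgroup G) := by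
    rw [inv_inv, MonoidHom.map_zpowers]
    exact zpowers_le.2 hg
  obtain ⟨c, w, y, hc, hw, hy, hgc⟩ := strong_alperin P hA hgA
  have hch : ∀ {B : Subgroup G} {v : G}, Ch P B v → B = A → v * t = t * v := by
    intro B v hv
    induction hv with
    | one B => intro _; simp
    | step B H x v hH hB hx _ ih =>
      intro hBA
      subst hBA
      have htH : t ∈ H := hB (mem_zpowers t)
      have h1 := h H (radical_of_ess hH) htH x (hx.mem_normalizer hH)
      have hcx : x * t = t * x := by
        conv_rhs => rw [← h1]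
        group
      have hfix : x⁻¹ ⋆ A = A := by
        rw [MonoidHom.map_zpowers]
        congr 1
        show x⁻¹ * t * x⁻¹⁻¹ = t
        rw [inv_inv, mul_assoc, ← hcx, inv_mul_cancel_left]
      calc x * v * t = x * (v * t) := mul_assoc _ _ _
        _ = x * (t * v) := by rw [ih hfix]
        _ = x * t * v := (mul_assoc _ _ _).symm
        _ = t * x * v := by rw [hcx]
        _ = t * (x * v) := mul_assoc _ _ _
  have hct : c * t = t * c := (mem_centralizer_iff.1 hc t (mem_zpowers t)).symm
  have hwt := hch hw rfl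
  have hyt : y * t = t * y := by
    have h1 := h _ (radical_self P) htP y hy
    conv_rhs => rw [← h1]
    group
  have hgt : g⁻¹ * t = t * g⁻¹ := by
    rw [hgc]
    calc c * w * y * t = c * w * (y * t) := mul_assoc _ _ _
      _ = c * (w * t) * y := by rw [hyt]; group
      _ = c * t * w * y := by rw [hwt]; group
      _ = t * (c * w * y) := by rw [hct]; group
  calc g * t * g⁻¹ = g * (g⁻¹ * t) := by rw [mul_assoc, hgt]
    _ = t := mul_inv_cancel_left g t

end CfsgLib.Balance2
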