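import Cfsg.Agent.Balance2.CoreLift
import Cfsg.Agent.Balance2.Layer

/-!
Balance of the extended `2`-layer: a normal subgroup of the centralizer of a `2`-group.
-/

set_option autoImplicit false
set_option linter.unusedSectionVars false
set_option linter.style.haveILetI false

namespace CfsgLib.Balance2

open Subgroup CfsgLib.Functor CfsgLib.LocalBalance CfsgLib.LBalance

universe u v

variable {G : Type u} [Group G] [Finite G] [Fact (Nat.Prime 2)]
  {A : Type v} [Group A] [Finite A]

omit [Finite G] [Finite A] [Fact (Nat.Prime 2)] in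
theorem map_le_centralizer' (ι : A →* G) (T : Subgroup A) :
    (centralizer (T : Set A)).map ι ≤ centralizer ((T.map ι : Subgroup G) : Set G) := by
  rintro _ ⟨a, ha, rfl⟩
  refine mem_centralizer_iff.2 ?_
  rintro _ ⟨t, ht, rfl⟩
  rw [← map_mul, ← map_mul, mem_centralizer_iff.1 ha t ht]

omit [Finite G] [Fact (Nat.Prime 2)] in
theorem le_centralizer_sup' {W A B : Subgroup G} (hA : W ≤ centralizer (A : Set G))
    (hB : W ≤ centralizer (B : Set G)) : W ≤ centralizer ((A ⊔ B : Subgroup G) : Set G) :=
  le_centralizer_iff.1 (sup_le (le_centralizer_iff.1 hA) (le_centralizer_iff.1 hB))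

/-- `L*` of a normal subgroup of `C(R)` lies in `L*` of the group. -/
theorem extendedTwoLayer_map_le {R : Subgroup G} (hR : IsPGroup 2 R) (ι : A →* G)
    (hι : Function.Injective ι) (hle : ι.range ≤ centralizer (R : Set G))
    (hn : centralizer (R : Set G) ≤ normalizer (ι.range : Set G)) :
    (Cfsg.extendedTwoLayer A).map ι ≤ Cfsg.extendedTwoLayer G := by
  set C := centralizer (R : Set G) with hC
  have hLL : Cfsg.pLayer 2 G ≤ Cfsg.extendedTwoLayer G := le_sup_left.trans le_sup_left
  obtain ⟨T⟩ := (inferInstance : Nonempty (Sylow 2 ↥(ExtTwoLayer.base A)))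
  rw [ExtTwoLayer.extendedTwoLayer_eq T, Subgroup.map_sup, Subgroup.map_sup]
  refine sup_le (sup_le ?_ ?_) ?_
  · rw [map_le_iff_le_comap]
    refine PComp.pLayer_le 2 fun J hJ => ?_
    rw [← map_le_iff_le_comap]
    refine le_trans (quasi_le_pLayer hR (map_le_range ι J |>.trans hle) ?_
      ((quasi_of_pComponent hJ).map ι ?_)) hLL
    · set j : A →* ↥C := ι.codRestrict C fun a => hle ⟨a, rfl⟩ with hj
      have hjr : j.range = ι.range.subgroupOf C := by
        ext x
        constructor
        · rintro ⟨a, rfl⟩
          exact ⟨a, rfl⟩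
        · rintro ⟨a, ha⟩
          exact ⟨a, Subtype.ext ha⟩
      have h1 : (J.map ι).subgroupOf C = (J.map j.rangeRestrict).map j.range.subtype := by
        rw [Subgroup.map_map, MonoidHom.subtype_comp_rangeRestrict]
        ext x
        constructor
        · rintro ⟨a, ha, hax⟩
          exact ⟨a, ha, Subtype.ext hax⟩
        · rintro ⟨a, ha, rfl⟩
          exact ⟨a, ha, rfl⟩
      rw [← hC, h1]
      refine IsSubnormal.trans' (hJ.1.map j.rangeRestrict_surjective) (Normal.isSubnormal ?_)
      rw [hjr]
      exact (normal_subgroupOf_iff_le_normalizer hle).2 hn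
    · rw [(MonoidHom.ker_eq_bot_iff ι).2 hι, inf_bot_eq, card_bot]
      exact Nat.coprime_one_left _
  · refine le_trans ?_ (core_centralizer_le_extendedTwoLayer hR)
    have h1 : (Cfsg.oddCore A).map ι ≤ core 2 ι.range := le_core (map_le_range ι _)
      (by
        rw [MonoidHom.range_eq_map]
        exact (map_mono (le_normalizer_of_normal (H := Cfsg.oddCore A))).trans (le_normalizer_map ι))
      ((Solvable.coprime_card_pPrimeCore 2).coprime_dvd_left (card_map_dvd _ _))
    exact h1.trans (le_core ((core_le _).trans hle)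
      (hn.trans (normalizer_le_normalizer_core _)) (coprime_core _))
  · set T₀ := ExtTwoLayer.sylowBase T with hT₀
    have hT'p : IsPGroup 2 ↥(T₀.map ι) := (T.2.map _).map ι
    have hR' : IsPGroup 2 ↥(T₀.map ι ⊔ R) := IsPGroup.to_sup_of_normal_left' hT'p hR
      ((le_centralizer_iff.1 ((map_le_range ι T₀).trans hle)).trans (centralizer_le_normalizer _))
    refine le_trans ?_ (core_centralizer_le_extendedTwoLayer hR')
    set W := ι.range ⊓ centralizer ((T₀.map ι : Subgroup G) : Set G) with hW
    have hWeq : W ≤ (centralizer (T₀ : Set A)).map ι := by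
      rintro x ⟨⟨a, rfl⟩, ha⟩
      refine ⟨a, mem_centralizer_iff.2 fun t ht => hι ?_, rfl⟩
      rw [map_mul, map_mul]
      exact mem_centralizer_iff.1 ha (ι t) ⟨t, ht, rfl⟩
    have h1 : (ExtTwoLayer.coreCent T₀).map ι ≤ core 2 W := by
      refine le_core (le_inf (map_le_range ι _) ((map_mono (ExtTwoLayer.coreCent_le T₀)).trans
        (map_le_centralizer' ι T₀))) ?_
        ((ExtTwoLayer.coprime_card_coreCent T₀).coprime_dvd_left (card_map_dvd _ _))
      exact hWeq.trans ((map_mono (le_normalizer.trans
        (normalizer_le_normalizer_core (p := 2) (centralizer (T₀ : Set A))))).trans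
          (le_normalizer_map ι))
    refine h1.trans (le_core ((core_le _).trans (le_centralizer_sup' inf_le_right
      (inf_le_left.trans hle))) ?_ (coprime_core _))
    refine le_trans ?_ (normalizer_le_normalizer_core _)
    exact (le_inf ((centralizer_le (le_sup_right : R ≤ T₀.map ι ⊔ R)).trans hn)
      ((centralizer_le (le_sup_left : T₀.map ι ≤ T₀.map ι ⊔ R)).trans le_normalizer)).trans
      inf_normalizer_le_normalizer_inf

end CfsgLib.Balance2
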